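import Mathlib.RingTheory.WittVector.Complete
import Groth.Agent.EtDual.K148.Lift

/-! # The map `D → W(D/p)`

`D` a ring in which `p` is a nonzerodivisor and whose reduction `B = D/p` is perfect.  There is a
unique ring homomorphism `ρ : D → W(B)` lifting `D → B`; it is an isomorphism modulo all powers of
`p`. -/

set_option autoImplicit false

universe u v w

open WittVector Ideal

namespace Groth.Agent.EtDual.K375.Rho

variable {p : ℕ} [hp : Fact p.Prime]

section Haus

variable {B : Type v} [CommRing B] [CharP B p] [PerfectRing B p]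

/-- `W(B)` is `p`-adically separated. -/
theorem eq_zero_of_dvd (x : WittVector p B) (h : ∀ n : ℕ, (p : WittVector p B) ^ n ∣ x) : x = 0 := by
  ext n
  have h1 := h (n + 1)
  rw [← Ideal.mem_span_singleton, mem_span_p_pow_iff_le_coeff_eq_zero] at h1
  rw [h1 n (Nat.lt_succ_self n), zero_coeff]

theorem eq_of_dvd (x y : WittVector p B) (h : ∀ n : ℕ, (p : WittVector p B) ^ n ∣ x - y) : x = y :=
  sub_eq_zero.mp (eq_zero_of_dvd _ h)

/-- Ring homomorphisms `W(T) → W(B)` are determined by their reduction. -/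
theorem ringHom_ext {T : Type u} [CommRing T] [CharP T p] [PerfectRing T p]
    (φ ψ : WittVector p T →+* WittVector p B)
    (h : ∀ x, (φ x).coeff 0 = (ψ x).coeff 0) : φ = ψ := by
  ext1 x
  refine eq_of_dvd _ _ fun n => ?_
  have h1 := K148.Lift.lift_unique (p := p) (T := T)
    (O := WittVector p B ⧸ span {(p : WittVector p B) ^ n}) ⟨n, by
      rw [← map_natCast (Ideal.Quotient.mk _), ← map_pow, Ideal.Quotient.eq_zero_iff_mem]
      exact Ideal.mem_span_singleton_self _⟩
    ((Ideal.Quotient.mk _).comp φ) ((Ideal.Quotient.mk _).comp ψ) (fun y => by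
      rw [RingHom.comp_apply, RingHom.comp_apply, Ideal.Quotient.eq, ← map_sub,
        Ideal.mem_span_singleton]
      have h2 : (p : WittVector p B) ∣ φ y - ψ y := by
        rw [K148.Prim.p_dvd_iff]
        change constantCoeff (φ y - ψ y) = 0
        rw [map_sub, sub_eq_zero]
        exact h y
      have h3 := map_dvd (Ideal.Quotient.mk (span {(p : WittVector p B) ^ n})) h2
      rwa [map_natCast] at h3)
  have h2 := RingHom.congr_fun h1 x
  rw [RingHom.comp_apply, RingHom.comp_apply, Ideal.Quotient.eq, Ideal.mem_span_singleton] at h2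
  exact h2

end Haus

variable {D : Type u} {B : Type v} [CommRing D] [CommRing B] [CharP B p] [PerfectRing B p]
  {π : D →+* B} (hπ : Function.Surjective π) (hker : RingHom.ker π = span {(p : D)})
  (hreg : ∀ x : D, (p : D) * x = 0 → x = 0)

include hker in
theorem comp_ker (n : ℕ) : RingHom.ker π ≤ RingHom.ker
    ((Ideal.Quotient.mk (span {(p : D ⧸ span {(p : D) ^ n})})).comp
      (Ideal.Quotient.mk (span {(p : D) ^ n}))) := by
  rw [hker, Ideal.span_singleton_le_iff_mem, RingHom.mem_ker, RingHom.comp_apply, map_natCast,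
    Ideal.Quotient.eq_zero_iff_mem]
  exact Ideal.mem_span_singleton_self _

/-- The map `B → (D/p^n)/p`. -/
noncomputable def g (n : ℕ) : B →+* (D ⧸ span {(p : D) ^ n}) ⧸ span {(p : D ⧸ span {(p : D) ^ n})} :=
  RingHom.liftOfSurjective π hπ ⟨_, comp_ker hker n⟩

theorem g_apply (n : ℕ) (x : D) : g hπ hker n (π x) =
    Ideal.Quotient.mk _ (Ideal.Quotient.mk (span {(p : D) ^ n}) x) :=
  RingHom.liftOfRightInverse_comp_apply π _ _ ⟨_, comp_ker hker n⟩ x

theorem natCast_pow_eq_zero (n : ℕ) : (p : D ⧸ span {(p : D) ^ n}) ^ n = 0 := by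
  rw [← map_natCast (Ideal.Quotient.mk _), ← map_pow, Ideal.Quotient.eq_zero_iff_mem]
  exact Ideal.mem_span_singleton_self _

/-- The map `φ_n : W(B) → D/p^n`. -/
noncomputable def φ (n : ℕ) : WittVector p B →+* D ⧸ span {(p : D) ^ n} :=
  (K148.Lift.exists_lift ⟨n, natCast_pow_eq_zero n⟩ (g hπ hker n)).choose

theorem φ_spec (n : ℕ) (w : WittVector p B) :
    Ideal.Quotient.mk (span {(p : D ⧸ span {(p : D) ^ n})}) (φ hπ hker n w) =
      g hπ hker n (w.coeff 0) :=
  (K148.Lift.exists_lift ⟨n, natCast_pow_eq_zero n⟩ (g hπ hker n)).choose_spec w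

/-- `φ_n w` and `x` agree modulo `p` if `w` and `x` have the same reduction. -/
theorem dvd_φ_sub (n : ℕ) (w : WittVector p B) (x : D) (h : w.coeff 0 = π x) :
    (p : D ⧸ span {(p : D) ^ n}) ∣ φ hπ hker n w - Ideal.Quotient.mk _ x := by
  rw [← Ideal.mem_span_singleton, ← Ideal.Quotient.eq, φ_spec, h, g_apply]

theorem factor_φ {m n : ℕ} (h : m ≤ n) (w : WittVector p B) :
    Ideal.Quotient.factor (span_singleton_le_span_singleton.mpr (pow_dvd_pow (p : D) h))
      (φ hπ hker n w) = φ hπ hker m w := by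
  have h1 := K148.Lift.lift_unique (p := p) (T := B) ⟨m, natCast_pow_eq_zero m⟩
    ((Ideal.Quotient.factor (span_singleton_le_span_singleton.mpr (pow_dvd_pow (p : D) h))).comp
      (φ hπ hker n)) (φ hπ hker m) (fun w => by
      obtain ⟨x, hx⟩ := hπ (w.coeff 0)
      rw [Ideal.Quotient.eq, Ideal.mem_span_singleton, RingHom.comp_apply]
      have h1 := map_dvd (Ideal.Quotient.factor
        (span_singleton_le_span_singleton.mpr (pow_dvd_pow (p : D) h)))
        (dvd_φ_sub hπ hker n w x hx.symm)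
      have h2 := dvd_φ_sub hπ hker m w x hx.symm
      rw [map_natCast, map_sub, Ideal.Quotient.factor_mk] at h1
      have h3 := dvd_sub h1 h2
      rwa [sub_sub_sub_cancel_right] at h3)
  exact RingHom.congr_fun h1 w

include hreg in
theorem dvd_of_φ_mem (m : ℕ) : ∀ (n : ℕ) (_ : m ≤ n) (w : WittVector p B),
    (p : D ⧸ span {(p : D) ^ n}) ^ m ∣ φ hπ hker n w → (p : WittVector p B) ^ m ∣ w := by
  induction m with
  | zero => intro n _ w _; rw [pow_zero]; exact one_dvd _
  | succ m ih =>
    intro n hn w hw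
    obtain ⟨n, rfl⟩ : ∃ n', n = n' + 1 := ⟨n - 1, by omega⟩
    obtain ⟨x, hx⟩ := hπ (w.coeff 0)
    have h1 : (p : D ⧸ span {(p : D) ^ (n + 1)}) ∣ Ideal.Quotient.mk _ x := by
      have h2 := dvd_φ_sub hπ hker (n + 1) w x hx.symm
      have h3 : (p : D ⧸ span {(p : D) ^ (n + 1)}) ∣ φ hπ hker (n + 1) w :=
        (dvd_pow_self _ (Nat.succ_ne_zero m)).trans hw
      exact (dvd_sub_right h3).mp h2
    have h2 : (p : D) ∣ x := by
      obtain ⟨y, hy⟩ := h1
      obtain ⟨y, rfl⟩ := Ideal.Quotient.mk_surjective y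
      rw [← map_natCast (Ideal.Quotient.mk _), ← map_mul, Ideal.Quotient.eq,
        Ideal.mem_span_singleton] at hy
      have h3 : (p : D) ∣ x - p * y := (dvd_pow_self _ (Nat.succ_ne_zero n)).trans hy
      exact (dvd_sub_left (Dvd.intro y rfl)).mp h3
    have h3 : w.coeff 0 = 0 := by
      rw [← hx, ← RingHom.mem_ker, hker, Ideal.mem_span_singleton]
      exact h2
    obtain ⟨w', rfl⟩ := (K148.Prim.p_dvd_iff w).mpr h3
    rw [map_mul, map_natCast] at hw
    obtain ⟨y, hy⟩ := Ideal.Quotient.mk_surjective (φ hπ hker (n + 1) w')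
    obtain ⟨z, hz⟩ := hw
    obtain ⟨z, rfl⟩ := Ideal.Quotient.mk_surjective z
    rw [← hy, ← map_natCast (Ideal.Quotient.mk _), ← map_pow, ← map_mul, ← map_mul,
      Ideal.Quotient.eq, Ideal.mem_span_singleton] at hz
    obtain ⟨s, hs⟩ := hz
    have h4 : y = p ^ m * z + p ^ n * s := by
      rw [← sub_eq_zero]
      apply hreg
      linear_combination hs
    rw [pow_succ']
    refine mul_dvd_mul_left _ (ih (n + 1) (by omega) w' ?_)
    rw [← hy, h4, map_add, map_mul, map_mul, map_pow, map_pow, map_natCast]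
    refine dvd_add (Dvd.intro _ rfl) ?_
    exact (pow_dvd_pow _ (by omega)).trans (Dvd.intro _ rfl)

include hreg in
theorem dvd_of_φ_eq_zero (n : ℕ) (w : WittVector p B) (h : φ hπ hker n w = 0) :
    (p : WittVector p B) ^ n ∣ w :=
  dvd_of_φ_mem hπ hker hreg n n le_rfl w (by rw [h]; exact dvd_zero _)

theorem exists_φ_sub (n m : ℕ) (x : D) :
    ∃ w, (p : D ⧸ span {(p : D) ^ n}) ^ m ∣ φ hπ hker n w - Ideal.Quotient.mk _ x := by
  induction m with
  | zero => exact ⟨0, by rw [pow_zero]; exact one_dvd _⟩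
  | succ m ih =>
    obtain ⟨w, y, hy⟩ := ih
    obtain ⟨y, rfl⟩ := Ideal.Quotient.mk_surjective y
    refine ⟨w - p ^ m * teichmuller p (π y), ?_⟩
    have h1 := dvd_φ_sub hπ hker n (teichmuller p (π y)) y (teichmuller_coeff_zero p (π y))
    obtain ⟨z, hz⟩ := h1
    refine ⟨- z, ?_⟩
    rw [map_sub, map_mul, map_pow, map_natCast]
    linear_combination hy - (p : D ⧸ span {(p : D) ^ n}) ^ m * hz

theorem φ_surj (n : ℕ) (x : D) : ∃ w, φ hπ hker n w = Ideal.Quotient.mk _ x := by
  obtain ⟨w, y, hy⟩ := exists_φ_sub hπ hker n n x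
  refine ⟨w, ?_⟩
  rw [natCast_pow_eq_zero, zero_mul, sub_eq_zero] at hy
  exact hy

theorem φ_of_dvd (n : ℕ) (w w' : WittVector p B) (h : (p : WittVector p B) ^ n ∣ w - w') :
    φ hπ hker n w = φ hπ hker n w' := by
  have h1 := map_dvd (φ hπ hker n) h
  rw [map_pow, map_natCast, natCast_pow_eq_zero, zero_dvd_iff, map_sub, sub_eq_zero] at h1
  exact h1

include hreg in
/-- The element `ρ x`. -/
theorem exists_rho_apply (x : D) : ∃ w : WittVector p B, ∀ n,
    φ hπ hker n w = Ideal.Quotient.mk _ x := by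
  choose w hw using fun n => φ_surj hπ hker n x
  have h1 : ∀ {m n}, m ≤ n → (p : WittVector p B) ^ m ∣ w m - w n := by
    intro m n h
    refine dvd_of_φ_eq_zero hπ hker hreg m _ ?_
    rw [map_sub, ← factor_φ hπ hker h (w n), hw, hw, Ideal.Quotient.factor_mk, sub_self]
  obtain ⟨L, hL⟩ := IsPrecomplete.prec (I := span {(p : WittVector p B)}) (M := WittVector p B)
    inferInstance (f := w) (fun {m n} h => by
      rw [SModEq.sub_mem, smul_eq_mul, Ideal.mul_top, Ideal.span_singleton_pow,
        Ideal.mem_span_singleton]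
      exact h1 h)
  refine ⟨L, fun n => ?_⟩
  have h2 := hL n
  rw [SModEq.sub_mem, smul_eq_mul, Ideal.mul_top, Ideal.span_singleton_pow,
    Ideal.mem_span_singleton] at h2
  rw [← φ_of_dvd hπ hker n _ _ h2, hw]

include hreg in
theorem rho_unique (w w' : WittVector p B) (h : ∀ n, φ hπ hker n w = φ hπ hker n w') : w = w' :=
  eq_of_dvd _ _ fun n => dvd_of_φ_eq_zero hπ hker hreg n _ (by rw [map_sub, h n, sub_self])

/-- The map `ρ : D → W(B)`. -/
noncomputable def rho : D →+* WittVector p B where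
  toFun x := (exists_rho_apply hπ hker hreg x).choose
  map_one' := rho_unique hπ hker hreg _ _ fun n => by
    rw [(exists_rho_apply hπ hker hreg 1).choose_spec n, map_one, map_one]
  map_zero' := rho_unique hπ hker hreg _ _ fun n => by
    rw [(exists_rho_apply hπ hker hreg 0).choose_spec n, map_zero, map_zero]
  map_mul' x y := rho_unique hπ hker hreg _ _ fun n => by
    rw [map_mul, (exists_rho_apply hπ hker hreg _).choose_spec n,
      (exists_rho_apply hπ hker hreg _).choose_spec n,
      (exists_rho_apply hπ hker hreg _).choose_spec n, map_mul]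
  map_add' x y := rho_unique hπ hker hreg _ _ fun n => by
    rw [map_add, (exists_rho_apply hπ hker hreg _).choose_spec n,
      (exists_rho_apply hπ hker hreg _).choose_spec n,
      (exists_rho_apply hπ hker hreg _).choose_spec n, map_add]

theorem φ_rho (n : ℕ) (x : D) : φ hπ hker n (rho hπ hker hreg x) = Ideal.Quotient.mk _ x :=
  (exists_rho_apply hπ hker hreg x).choose_spec n

/-- `ρ` lifts `π`. -/
theorem coeff_zero_rho (x : D) : (rho hπ hker hreg x).coeff 0 = π x := by
  obtain ⟨y, hy⟩ := hπ ((rho hπ hker hreg x).coeff 0)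
  have h1 := dvd_φ_sub hπ hker 1 (rho hπ hker hreg x) y hy.symm
  rw [φ_rho] at h1
  obtain ⟨z, hz⟩ := h1
  obtain ⟨z, rfl⟩ := Ideal.Quotient.mk_surjective z
  rw [← map_natCast (Ideal.Quotient.mk _), ← map_mul, ← map_sub, Ideal.Quotient.eq,
    Ideal.mem_span_singleton, pow_one] at hz
  have h2 : (p : D) ∣ x - y := (dvd_sub_left (Dvd.intro z rfl)).mp hz
  rw [← Ideal.mem_span_singleton, ← hker, RingHom.mem_ker, map_sub, sub_eq_zero] at h2
  rw [h2, hy]

/-- `ρ` is injective modulo all powers of `p`. -/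
theorem dvd_of_dvd_rho (r : ℕ) (x : D) (h : (p : WittVector p B) ^ r ∣ rho hπ hker hreg x) :
    (p : D) ^ r ∣ x := by
  have h1 : φ hπ hker r (rho hπ hker hreg x) = φ hπ hker r 0 :=
    φ_of_dvd hπ hker r _ _ (by rwa [sub_zero])
  rw [φ_rho, map_zero, Ideal.Quotient.eq_zero_iff_mem, Ideal.mem_span_singleton] at h1
  exact h1

/-- `ρ` is surjective modulo all powers of `p`. -/
theorem exists_dvd_sub_rho (r : ℕ) (y : WittVector p B) :
    ∃ x, (p : WittVector p B) ^ r ∣ y - rho hπ hker hreg x := by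
  obtain ⟨x, hx⟩ := Ideal.Quotient.mk_surjective (φ hπ hker r y)
  refine ⟨x, dvd_of_φ_eq_zero hπ hker hreg r _ ?_⟩
  rw [map_sub, φ_rho, hx, sub_self]

/-- `ρ` is the only lift of `π`. -/
theorem eq_rho (σ : D →+* WittVector p B) (hσ : ∀ x, (σ x).coeff 0 = π x) :
    σ = rho hπ hker hreg := by
  ext1 x
  refine eq_of_dvd _ _ fun n => ?_
  let σn : D ⧸ span {(p : D) ^ n} →+* WittVector p B ⧸ span {(p : WittVector p B) ^ n} :=
    Ideal.quotientMap _ σ (by
      rw [Ideal.span_singleton_le_iff_mem, Ideal.mem_comap, map_pow, map_natCast]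
      exact Ideal.mem_span_singleton_self _)
  have h1 : σn.comp (φ hπ hker n) = Ideal.Quotient.mk _ := by
    refine K148.Lift.lift_unique (p := p) (T := B) ⟨n, ?_⟩ _ _ (fun w => ?_)
    · rw [← map_natCast (Ideal.Quotient.mk _), ← map_pow, Ideal.Quotient.eq_zero_iff_mem]
      exact Ideal.mem_span_singleton_self _
    · obtain ⟨y, hy⟩ := hπ (w.coeff 0)
      rw [Ideal.Quotient.eq, Ideal.mem_span_singleton, RingHom.comp_apply]
      have h2 := map_dvd σn (dvd_φ_sub hπ hker n w y hy.symm)
      rw [map_natCast, map_sub] at h2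
      have h3 : σn (Ideal.Quotient.mk _ y) = Ideal.Quotient.mk _ (σ y) := Ideal.quotientMap_mk
      rw [h3] at h2
      have h4 : (p : WittVector p B) ∣ σ y - w := by
        rw [K148.Prim.p_dvd_iff]
        change constantCoeff (σ y - w) = 0
        rw [map_sub, sub_eq_zero]
        exact (hσ y).trans hy
      have h5 := map_dvd (Ideal.Quotient.mk (span {(p : WittVector p B) ^ n})) h4
      rw [map_natCast, map_sub] at h5
      have h6 := dvd_add h2 h5
      rwa [sub_add_sub_cancel] at h6
  have h2 := RingHom.congr_fun h1 (rho hπ hker hreg x)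
  rw [RingHom.comp_apply, φ_rho] at h2
  have h3 : σn (Ideal.Quotient.mk _ x) = Ideal.Quotient.mk _ (σ x) := Ideal.quotientMap_mk
  rw [h3, Ideal.Quotient.eq, Ideal.mem_span_singleton] at h2
  exact h2

/-- `ρ` maps `p`-power compatible systems to Teichmüller elements. -/
theorem rho_teichmuller (y : ℕ → D) (hy : ∀ m, y (m + 1) ^ p = y m) :
    rho hπ hker hreg (y 0) = teichmuller p (π (y 0)) := by
  refine eq_of_dvd _ _ fun n => ?_
  have h0 : ∀ m, y m ^ p ^ m = y 0 := by
    intro m
    induction m with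
    | zero => rw [pow_zero, pow_one]
    | succ m ih => rw [pow_succ' p m, pow_mul, hy, ih]
  have h1 : (p : WittVector p B) ∣ rho hπ hker hreg (y n) - teichmuller p (π (y n)) := by
    rw [K148.Prim.p_dvd_iff]
    change constantCoeff (rho hπ hker hreg (y n) - teichmuller p (π (y n))) = 0
    rw [map_sub, sub_eq_zero]
    exact (coeff_zero_rho hπ hker hreg (y n)).trans (teichmuller_coeff_zero p (π (y n))).symm
  have h2 := dvd_sub_pow_of_dvd_sub h1 n
  rw [← map_pow, ← map_pow, ← map_pow, h0] at h2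
  exact (pow_dvd_pow _ (Nat.le_succ n)).trans h2

/-- Compatibility with Witt vectors of a perfect ring mapping to `D`. -/
theorem rho_comp {T : Type w} [CommRing T] [CharP T p] [PerfectRing T p]
    (c : WittVector p T →+* D) (κ : T →+* B) (hc : ∀ x, π (c x) = κ (x.coeff 0)) :
    (rho hπ hker hreg).comp c = WittVector.map κ := by
  refine ringHom_ext _ _ fun x => ?_
  rw [RingHom.comp_apply, coeff_zero_rho, hc, WittVector.map_coeff]

end Groth.Agent.EtDual.K375.Rho
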