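import Groth.Agent.EtDual.K375.TowerInf
import Groth.Agent.EtDual.K375.Rho

/-! # `R_∞` and `W(S)/(p - f([x]))`

`S` a perfect closure of `k[[X_1, …, X_d]]`.  `Q = colim (W(k)[[X]], X_i ↦ X_i^p)` satisfies
`Q/p = S`; the map `ρ : Q → W(S)`, `X_i^(1/p^m) ↦ [x_i^(1/p^m)]`, induces
`Φ : R_∞ → W(S)/(p - ρ(f))`, an isomorphism modulo all powers of `p`. -/

set_option autoImplicit false

universe u

open WittVector Ideal MvPowerSeries

namespace Groth.Agent.EtDual.K375.Tilt

open Tower

set_option linter.unusedSectionVars false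

section Q

variable (p : ℕ) [hp : Fact p.Prime] (k : Type u) [Field k] [CharP k p] (d : ℕ)

instance directedSystem : DirectedSystem (fun _ : ℕ => A p k d)
    (fun m n (_ : m ≤ n) => (ex p k d (n - m) : A p k d → A p k d)) where
  map_self m a := by rw [Nat.sub_self, ex_zero]
  map_map l m n h h' a := by
    change ex p k d _ (ex p k d _ a) = ex p k d _ a
    rw [ex_ex, show l - m + (m - n) = l - n by omega]

/-- `Q = W(k)[[X^(1/p^∞)]]`, the colimit of `W(k)[[X]]` along `X_i ↦ X_i^p`. -/
abbrev Q : Type u := Ring.DirectLimit (fun _ : ℕ => A p k d) fun m n _ => ex p k d (n - m)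

/-- The `m`-th copy of `W(k)[[X]]` in `Q`, `X_i ↦ X_i^(1/p^m)`. -/
noncomputable def toQ (m : ℕ) : A p k d →+* Q p k d :=
  Ring.DirectLimit.of (fun _ : ℕ => A p k d) (fun m n _ => ex p k d (n - m)) m

theorem toQ_ex (m n : ℕ) (a : A p k d) : toQ p k d (m + n) (ex p k d n a) = toQ p k d m a := by
  have h := Ring.DirectLimit.of_f (G := fun _ : ℕ => A p k d)
    (f := fun m n _ => ex p k d (n - m)) (Nat.le_add_right m n) a
  rw [Nat.add_sub_cancel_left] at h
  exact h

theorem exists_toQ (z : Q p k d) : ∃ m a, toQ p k d m a = z := Ring.DirectLimit.exists_of z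

theorem ex_injective (m : ℕ) : Function.Injective (ex p k d m) := by
  have hpm : 0 < p ^ m := Nat.pos_of_ne_zero (pow_ne p _)
  have : Nonempty (Fin d → Fin (p ^ m)) := ⟨fun _ => ⟨0, hpm⟩⟩
  exact (isBas_ex m).injective ⟨fun _ => ⟨0, hpm⟩, by simp⟩

theorem toQ_injective (m : ℕ) : Function.Injective (toQ p k d m) :=
  Ring.DirectLimit.of_injective (G := fun _ : ℕ => A p k d)
    (f' := fun m n _ => ex p k d (n - m)) (fun _ _ _ => ex_injective p k d _) m

variable [PerfectRing k p]

theorem Q_reg (z : Q p k d) (hz : (p : Q p k d) * z = 0) : z = 0 := by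
  obtain ⟨m, a, rfl⟩ := exists_toQ p k d z
  have h1 : toQ p k d m ((p : A p k d) * a) = 0 := by rw [map_mul, map_natCast, hz]
  have h2 : (p : A p k d) * a = 0 := toQ_injective p k d m (by rw [h1, map_zero])
  have h3 : (p : A p k d) ≠ 0 := by
    intro h
    have h4 := congrArg (MvPowerSeries.constantCoeff (σ := Fin d) (R := WittVector p k)) h
    rw [map_natCast, map_zero] at h4
    exact (WittVector.irreducible p).ne_zero h4
  have h4 : a = 0 := (mul_eq_zero.mp h2).resolve_left h3
  rw [h4, map_zero]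

/-- The reduction `W(k)[[X]] → k[[X]]`. -/
noncomputable def red : A p k d →+* MvPowerSeries (Fin d) k :=
  MvPowerSeries.map (WittVector.constantCoeff (p := p) (R := k))

theorem red_surjective : Function.Surjective (red p k d) := by
  intro h
  let a : A p k d := fun n => WittVector.teichmuller p (MvPowerSeries.coeff n h)
  refine ⟨a, ?_⟩
  ext n
  rw [red, MvPowerSeries.coeff_map]
  exact WittVector.teichmuller_coeff_zero p _

theorem red_eq_zero (a : A p k d) (h : red p k d a = 0) : ∃ b, a = (p : A p k d) * b := by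
  have h1 : ∀ n, ∃ c, MvPowerSeries.coeff n a = (p : WittVector p k) * c := by
    intro n
    have h2 := congrArg (MvPowerSeries.coeff n) h
    rw [red, MvPowerSeries.coeff_map, map_zero] at h2
    exact (K148.Prim.p_dvd_iff _).mpr h2
  choose c hc using h1
  let c' : A p k d := c
  refine ⟨c', ?_⟩
  apply MvPowerSeries.ext
  intro n
  rw [hc n, ← map_natCast (MvPowerSeries.C (σ := Fin d) (R := WittVector p k)),
    MvPowerSeries.coeff_C_mul]
  rfl

@[simp]
theorem red_X (i : Fin d) : red p k d (X i) = X i := MvPowerSeries.map_X _ i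

@[simp]
theorem red_C (c : WittVector p k) : red p k d (C c) = C (c.coeff 0) := MvPowerSeries.map_C _ c

theorem red_ex (m : ℕ) (a : A p k d) :
    red p k d (ex p k d m a) = expand (p ^ m) (pow_ne p m) (red p k d a) := by
  rw [red, ex_apply, map_expand]

end Q

section S

variable {p : ℕ} [hp : Fact p.Prime] {k : Type u} [Field k] [CharP k p] {d : ℕ} [PerfectRing k p]
  {S : Type u} [CommRing S] [CharP S p] [PerfectRing S p]
  (of : MvPowerSeries (Fin d) k →+* S)

/-- The map `W(k)[[X]] → S`, `X_i ↦ x_i^(1/p^m)`. -/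
noncomputable def πm (m : ℕ) : A p k d →+* S :=
  ((iterateFrobeniusEquiv S p m).symm : S →+* S).comp
    (of.comp ((MvPowerSeries.map (iterateFrobenius k p m)).comp (red p k d)))

theorem πm_pow (m : ℕ) (a : A p k d) :
    πm of m a ^ p ^ m = of (MvPowerSeries.map (iterateFrobenius k p m) (red p k d a)) :=
  (iterateFrobeniusEquiv S p m).apply_symm_apply _

theorem pow_inj (m : ℕ) {s t : S} (h : s ^ p ^ m = t ^ p ^ m) : s = t :=
  (bijective_iterateFrobenius S p m).1 h

theorem πm_ex (m n : ℕ) (a : A p k d) : πm of (m + n) (ex p k d n a) = πm of m a := by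
  apply pow_inj (p := p) (m + n)
  rw [πm_pow, pow_add, pow_mul, πm_pow, ← map_pow, ← map_iterateFrobenius_expand p hp.out.ne_zero,
    red_ex, ← map_expand, ← RingHom.comp_apply (MvPowerSeries.map (iterateFrobenius k p n)),
    ← MvPowerSeries.map_comp]
  congr 3
  ext c
  rw [RingHom.comp_apply, iterateFrobenius_def, iterateFrobenius_def, iterateFrobenius_def,
    ← pow_mul, ← pow_add]

/-- The map `Q → S`. -/
noncomputable def piQ : Q p k d →+* S :=
  Ring.DirectLimit.lift (fun _ : ℕ => A p k d) (fun m n _ => ex p k d (n - m)) S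
    (fun m => πm of m) (fun m n h a => by
      obtain ⟨j, rfl⟩ := Nat.exists_eq_add_of_le h
      rw [Nat.add_sub_cancel_left, πm_ex])

@[simp]
theorem piQ_toQ (m : ℕ) (a : A p k d) : piQ of (toQ p k d m a) = πm of m a :=
  Ring.DirectLimit.lift_of (G := fun _ : ℕ => A p k d) (f := fun m n _ => ex p k d (n - m)) S
    (fun m => πm of m) _ m a

variable (hof : Function.Injective of) (hS : ∀ s : S, ∃ (n : ℕ) (h : _), of h = s ^ p ^ n)

include hS in
theorem piQ_surjective : Function.Surjective (piQ (p := p) of) := by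
  intro s
  obtain ⟨n, h, hh⟩ := hS s
  obtain ⟨a, ha⟩ := red_surjective p k d
    (MvPowerSeries.map ((iterateFrobeniusEquiv k p n).symm : k →+* k) h)
  refine ⟨toQ p k d n a, ?_⟩
  rw [piQ_toQ]
  apply pow_inj (p := p) n
  rw [πm_pow, ha, ← hh, ← RingHom.comp_apply (MvPowerSeries.map (iterateFrobenius k p n)),
    ← MvPowerSeries.map_comp]
  congr 1
  have h1 : (iterateFrobenius k p n).comp ((iterateFrobeniusEquiv k p n).symm : k →+* k) =
      RingHom.id k := by
    ext c
    exact (iterateFrobeniusEquiv k p n).apply_symm_apply c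
  rw [h1, MvPowerSeries.map_id]
  rfl

include hof in
theorem ker_piQ : RingHom.ker (piQ (p := p) of) = span {(p : Q p k d)} := by
  apply le_antisymm
  · intro z hz
    obtain ⟨m, a, rfl⟩ := exists_toQ p k d z
    rw [RingHom.mem_ker, piQ_toQ] at hz
    have h1 := πm_pow of m a
    rw [hz, zero_pow (pow_ne p m)] at h1
    have h2 : MvPowerSeries.map (iterateFrobenius k p m) (red p k d a) = 0 :=
      hof (by rw [← h1, map_zero])
    have h3 : red p k d a = 0 := by
      ext n
      have h4 := congrArg (MvPowerSeries.coeff n) h2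
      rw [MvPowerSeries.coeff_map, map_zero, iterateFrobenius_def] at h4
      rw [map_zero]
      exact eq_zero_of_pow_eq_zero h4
    obtain ⟨b, rfl⟩ := red_eq_zero p k d a h3
    rw [map_mul, map_natCast]
    exact Ideal.mul_mem_right _ _ (Ideal.mem_span_singleton_self _)
  · rw [Ideal.span_singleton_le_iff_mem, RingHom.mem_ker, map_natCast, CharP.cast_eq_zero]

/-- The map `ρ : Q → W(S)`. -/
noncomputable def rhoQ : Q p k d →+* WittVector p S :=
  Rho.rho (piQ_surjective of hS) (ker_piQ of hof) (Q_reg p k d)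

theorem coeff_zero_rhoQ (z : Q p k d) : (rhoQ of hof hS z).coeff 0 = piQ of z :=
  Rho.coeff_zero_rho _ _ _ z

/-- The `p^m`-th root of `x_i` in `S`. -/
noncomputable def rt (m : ℕ) (i : Fin d) : S := (iterateFrobeniusEquiv S p m).symm (of (X i))

theorem rt_pow (m : ℕ) (i : Fin d) : rt (p := p) of m i ^ p ^ m = of (X i) :=
  (iterateFrobeniusEquiv S p m).apply_symm_apply _

theorem piQ_X (m : ℕ) (i : Fin d) : piQ (p := p) of (toQ p k d m (X i)) = rt (p := p) of m i := by
  apply pow_inj (p := p) m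
  rw [piQ_toQ, πm_pow, rt_pow, red_X, MvPowerSeries.map_X]

/-- `ρ (X_i^(1/p^m)) = [x_i^(1/p^m)]`. -/
theorem rhoQ_X (m : ℕ) (i : Fin d) :
    rhoQ of hof hS (toQ p k d m (X i)) = teichmuller p (rt (p := p) of m i) := by
  have h := Rho.rho_teichmuller (piQ_surjective of hS) (ker_piQ of hof) (Q_reg p k d)
    (fun j => toQ p k d (m + j) (X i)) (fun j => by
      rw [← map_pow, ← toQ_ex p k d (m + j) 1 (X i), ex_X, pow_one]
      rfl)
  rw [piQ_X] at h
  exact h

/-- `ρ` restricted to `W(k)[[X]]`. -/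
noncomputable def rho0 : A p k d →+* WittVector p S := (rhoQ of hof hS).comp (toQ p k d 0)

theorem rho0_X (i : Fin d) : rho0 of hof hS (X i) = teichmuller p (of (X i)) := by
  have h := rhoQ_X of hof hS 0 i
  have h2 := rt_pow (p := p) of 0 i
  rw [pow_zero, pow_one] at h2
  rw [h2] at h
  exact h

theorem coeff_zero_rho0 (a : A p k d) : (rho0 of hof hS a).coeff 0 = of (red p k d a) := by
  rw [rho0, RingHom.comp_apply, coeff_zero_rhoQ, piQ_toQ]
  have h := πm_pow of 0 a
  rw [pow_zero, pow_one] at h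
  rw [h]
  congr 1
  have h1 : iterateFrobenius k p 0 = RingHom.id k := by
    ext c
    rw [iterateFrobenius_def, pow_zero, pow_one]
    rfl
  rw [h1, MvPowerSeries.map_id]
  rfl

theorem rho0_C (c : WittVector p k) : rho0 of hof hS (C c) =
    WittVector.map (of.comp (MvPowerSeries.C (σ := Fin d) (R := k))) c := by
  have h := Rho.rho_comp (piQ_surjective of hS) (ker_piQ of hof) (Q_reg p k d)
    ((toQ p k d 0).comp (MvPowerSeries.C (σ := Fin d) (R := WittVector p k)))
    (of.comp (MvPowerSeries.C (σ := Fin d) (R := k))) (fun x => by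
      have h1 := coeff_zero_rho0 of hof hS (C x)
      rw [rho0, RingHom.comp_apply, coeff_zero_rhoQ, red_C] at h1
      exact h1)
  exact RingHom.congr_fun h c

variable (f : A p k d)

/-- The element `ξ = p - ρ(f)`. -/
noncomputable def xi : WittVector p S := (p : WittVector p S) - rho0 of hof hS f

theorem xi_coeff_zero : (xi of hof hS f).coeff 0 = - of (red p k d f) := by
  change constantCoeff (xi of hof hS f) = _
  rw [xi, map_sub, map_natCast, CharP.cast_eq_zero, zero_sub, ← coeff_zero_rho0 of hof hS]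
  rfl

theorem rhoQ_eqn (m : ℕ) : rhoQ of hof hS (toQ p k d m (eqn f m)) = xi of hof hS f := by
  have h1 : eqn f m = ex p k d m (eqn f 0) := by rw [ex_eqn, add_zero]
  have h2 := toQ_ex p k d 0 m (eqn f 0)
  rw [zero_add] at h2
  have h3 : eqn f 0 = (p : A p k d) - f := by
    rw [eqn, ex_zero]
  rw [h1, h2, h3, map_sub, map_sub, map_natCast, map_natCast]
  rfl

/-- The map `R_m → W(S)/ξ`. -/
noncomputable def Phim (m : ℕ) : Rm f m →+* WittVector p S ⧸ span {xi of hof hS f} :=
  Ideal.Quotient.lift (span {eqn f m}) ((Ideal.Quotient.mk _).comp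
    ((rhoQ of hof hS).comp (toQ p k d m))) (fun a ha => by
      obtain ⟨b, rfl⟩ := Ideal.mem_span_singleton.mp ha
      rw [map_mul, RingHom.comp_apply, RingHom.comp_apply, rhoQ_eqn,
        Ideal.Quotient.eq_zero_iff_mem.mpr (Ideal.mem_span_singleton_self _), zero_mul])

theorem Phim_mk (m : ℕ) (a : A p k d) : Phim of hof hS f m (mk f m a) =
    Ideal.Quotient.mk _ (rhoQ of hof hS (toQ p k d m a)) := Ideal.Quotient.lift_mk _ _ _

theorem Phim_trLE {m n : ℕ} (h : m ≤ n) (a : Rm f m) :
    Phim of hof hS f n (trLE f h a) = Phim of hof hS f m a := by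
  obtain ⟨a, rfl⟩ := Ideal.Quotient.mk_surjective a
  obtain ⟨j, rfl⟩ := Nat.exists_eq_add_of_le h
  have h1 := toQ_ex p k d m j a
  rw [trLE_mk, Phim_mk, Phim_mk, Nat.add_sub_cancel_left, h1]

/-- The map `Φ : R_∞ → W(S)/ξ`. -/
noncomputable def Phi : Rinf f →+* WittVector p S ⧸ span {xi of hof hS f} :=
  Ring.DirectLimit.lift (Rm f) (fun _ _ h => trLE f h) _ (fun m => Phim of hof hS f m)
    (fun _ _ h a => Phim_trLE of hof hS f h a)

theorem Phi_toInf (m : ℕ) (a : Rm f m) : Phi of hof hS f (toInf f m a) = Phim of hof hS f m a :=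
  Ring.DirectLimit.lift_of (G := Rm f) (f := fun _ _ h => trLE f h) _
    (fun m => Phim of hof hS f m) (fun _ _ h a => Phim_trLE of hof hS f h a) m a

/-- `Φ (x_i^(1/p^m)) = [x_i^(1/p^m)]`. -/
theorem Phi_xInf (m : ℕ) (i : Fin d) : Phi of hof hS f (xInf f m i) =
    Ideal.Quotient.mk _ (teichmuller p (rt (p := p) of m i)) := by
  rw [xInf, Phi_toInf, x, Phim_mk, rhoQ_X]

theorem Phi_xInf_zero (i : Fin d) : Phi of hof hS f (xInf f 0 i) =
    Ideal.Quotient.mk _ (teichmuller p (of (X i))) := by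
  have h2 := rt_pow (p := p) of 0 i
  rw [pow_zero, pow_one] at h2
  rw [Phi_xInf, h2]

/-- The map `Q → R_∞`. -/
noncomputable def theta : Q p k d →+* Rinf f :=
  Ring.DirectLimit.lift (fun _ : ℕ => A p k d) (fun m n _ => ex p k d (n - m)) (Rinf f)
    (fun m => (toInf f m).comp (mk f m)) (fun m n h a => by
      rw [RingHom.comp_apply, RingHom.comp_apply, ← toInf_trLE f h (mk f m a), trLE_mk])

theorem theta_toQ (m : ℕ) (a : A p k d) : theta f (toQ p k d m a) = toInf f m (mk f m a) :=
  Ring.DirectLimit.lift_of (G := fun _ : ℕ => A p k d) (f := fun m n _ => ex p k d (n - m))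
    (Rinf f) (fun m => (toInf f m).comp (mk f m)) _ m a

theorem theta_surjective : Function.Surjective (theta f) := by
  intro z
  obtain ⟨m, a, rfl⟩ := exists_toInf f z
  obtain ⟨a, rfl⟩ := Ideal.Quotient.mk_surjective a
  exact ⟨toQ p k d m a, theta_toQ f m a⟩

theorem Phi_theta (z : Q p k d) : Phi of hof hS f (theta f z) =
    Ideal.Quotient.mk _ (rhoQ of hof hS z) := by
  obtain ⟨m, a, rfl⟩ := exists_toQ p k d z
  rw [theta_toQ, Phi_toInf, Phim_mk]

theorem theta_eqn : theta f (toQ p k d 0 (eqn f 0)) = 0 := by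
  rw [theta_toQ, Ideal.Quotient.eq_zero_iff_mem.mpr (Ideal.mem_span_singleton_self _), map_zero]

/-- `Φ` is injective modulo all powers of `p`. -/
theorem dvd_of_dvd_Phi (r : ℕ) (z : Rinf f)
    (h : (p : WittVector p S ⧸ span {xi of hof hS f}) ^ r ∣ Phi of hof hS f z) :
    (p : Rinf f) ^ r ∣ z := by
  obtain ⟨z, rfl⟩ := theta_surjective f z
  obtain ⟨y, hy⟩ := h
  obtain ⟨y, rfl⟩ := Ideal.Quotient.mk_surjective y
  rw [Phi_theta, ← map_natCast (Ideal.Quotient.mk _), ← map_pow, ← map_mul, Ideal.Quotient.eq,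
    Ideal.mem_span_singleton] at hy
  obtain ⟨w, hw⟩ := hy
  obtain ⟨b, c, hb⟩ := Rho.exists_dvd_sub_rho (piQ_surjective of hS) (ker_piQ of hof)
    (Q_reg p k d) r w
  change w - rhoQ of hof hS b = _ at hb
  have h1 : (p : WittVector p S) ^ r ∣ rhoQ of hof hS (z - toQ p k d 0 (eqn f 0) * b) := by
    refine ⟨y + xi of hof hS f * c, ?_⟩
    rw [map_sub, map_mul, rhoQ_eqn]
    linear_combination hw + xi of hof hS f * hb
  obtain ⟨e, he⟩ := Rho.dvd_of_dvd_rho (piQ_surjective of hS) (ker_piQ of hof) (Q_reg p k d) r _ h1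
  refine ⟨theta f e, ?_⟩
  have h2 := congrArg (theta f) he
  rw [map_sub, map_mul, theta_eqn, zero_mul, sub_zero, map_mul, map_pow, map_natCast] at h2
  exact h2

/-- `Φ` is surjective modulo all powers of `p`. -/
theorem exists_dvd_sub_Phi (r : ℕ) (y : WittVector p S ⧸ span {xi of hof hS f}) :
    ∃ z, (p : WittVector p S ⧸ span {xi of hof hS f}) ^ r ∣ y - Phi of hof hS f z := by
  obtain ⟨y, rfl⟩ := Ideal.Quotient.mk_surjective y
  obtain ⟨b, hb⟩ := Rho.exists_dvd_sub_rho (piQ_surjective of hS) (ker_piQ of hof)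
    (Q_reg p k d) r y
  refine ⟨theta f b, ?_⟩
  rw [Phi_theta]
  have h1 := map_dvd (Ideal.Quotient.mk (span {xi of hof hS f})) hb
  rw [map_pow, map_natCast, map_sub] at h1
  exact h1

end S

end Groth.Agent.EtDual.K375.Tilt
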