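import Groth.Agent.EtDual.K375.TowerReg

/-! # The colimit `R_∞` of the tower -/

universe u

namespace Groth.Agent.EtDual.K375.Tower

open MvPowerSeries IsLocalRing

set_option linter.unusedSectionVars false

variable {p : ℕ} [Fact p.Prime] {k : Type u} [Field k] [CharP k p] [PerfectRing k p] {d : ℕ}

section Res

variable {f : A p k d} (hf : f ∈ Ideal.span (Set.range (X : Fin d → A p k d)))

/-- The residue map `R_m → k`, `X ↦ 0`. -/
noncomputable def res (m : ℕ) : Rm f m →+* k :=
  Ideal.Quotient.lift (Ideal.span {eqn f m})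
    ((WittVector.constantCoeff (p := p) (R := k)).comp
      (MvPowerSeries.constantCoeff (σ := Fin d) (R := WittVector p k)))
    (fun a ha => by
      obtain ⟨b, rfl⟩ := Ideal.mem_span_singleton.mp ha
      rw [map_mul, RingHom.comp_apply, constantCoeff_eqn hf, map_natCast, CharP.cast_eq_zero,
        zero_mul])

@[simp]
theorem res_mk (m : ℕ) (g : A p k d) :
    res hf m (mk f m g) = WittVector.constantCoeff (MvPowerSeries.constantCoeff g) :=
  Ideal.Quotient.lift_mk _ _ _

@[simp]
theorem res_x (m : ℕ) (i : Fin d) : res hf m (x f m i) = 0 := by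
  rw [x, res_mk, constantCoeff_X, map_zero]

@[simp]
theorem res_trLE {m n : ℕ} (h : m ≤ n) (a : Rm f m) : res hf n (trLE f h a) = res hf m a := by
  obtain ⟨g, rfl⟩ := Ideal.Quotient.mk_surjective a
  rw [trLE_mk, res_mk, res_mk, constantCoeff_ex]

theorem res_surjective (m : ℕ) : Function.Surjective (res hf m) := by
  intro c
  refine ⟨mk f m (C (WittVector.teichmuller p c)), ?_⟩
  rw [res_mk, MvPowerSeries.constantCoeff_C]
  exact WittVector.teichmuller_coeff_zero p c

theorem ker_res (m : ℕ) : RingHom.ker (res hf m) = Ideal.span (Set.range (x f m)) := by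
  have := isRegularLocalRing_Rm hf m
  rw [← maximalIdeal_Rm hf m]
  exact eq_maximalIdeal (RingHom.ker_isMaximal_of_surjective _ (res_surjective hf m))

/-- The residue map `R_∞ → k`. -/
noncomputable def resInf : Rinf f →+* k :=
  Ring.DirectLimit.lift (Rm f) (fun _ _ h => trLE f h) k (fun m => res hf m)
    (fun _ _ h a => res_trLE hf h a)

@[simp]
theorem resInf_toInf (m : ℕ) (a : Rm f m) : resInf hf (toInf f m a) = res hf m a :=
  Ring.DirectLimit.lift_of (G := Rm f) (f := fun _ _ h => trLE f h) k (fun m => res hf m)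
    (fun _ _ h a => res_trLE hf h a) m a

theorem resInf_surjective : Function.Surjective (resInf hf) := by
  intro c
  obtain ⟨a, ha⟩ := res_surjective hf 0 c
  exact ⟨toInf f 0 a, by rw [resInf_toInf, ha]⟩

theorem isUnit_iff_res (m : ℕ) (a : Rm f m) : IsUnit a ↔ res hf m a ≠ 0 := by
  have := isRegularLocalRing_Rm hf m
  constructor
  · intro h
    exact (h.map (res hf m)).ne_zero
  · intro h
    by_contra h0
    have h1 : a ∈ maximalIdeal (Rm f m) := h0
    rw [maximalIdeal_Rm hf m, ← ker_res hf m] at h1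
    exact h h1

theorem isUnit_iff_resInf (z : Rinf f) : IsUnit z ↔ resInf hf z ≠ 0 := by
  constructor
  · intro h
    exact (h.map (resInf hf)).ne_zero
  · obtain ⟨m, a, rfl⟩ := exists_toInf f z
    rw [resInf_toInf, ← isUnit_iff_res hf m a]
    exact fun h => h.map (toInf f m)

include hf in
theorem isLocalRing_Rinf : IsLocalRing (Rinf f) := by
  have : Nontrivial (Rinf f) := (resInf hf).domain_nontrivial
  refine IsLocalRing.of_nonunits_add fun a b ha hb => ?_
  rw [mem_nonunits_iff, isUnit_iff_resInf hf, not_not] at ha hb ⊢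
  rw [map_add, ha, hb, add_zero]

include hf in
theorem isLocalHom_toInf (m : ℕ) : IsLocalHom (toInf f m) := by
  refine ⟨fun a ha => ?_⟩
  rw [isUnit_iff_resInf hf, resInf_toInf, ← isUnit_iff_res hf] at ha
  exact ha

theorem maximalIdeal_Rinf_eq_ker [IsLocalRing (Rinf f)] :
    maximalIdeal (Rinf f) = RingHom.ker (resInf hf) :=
  (eq_maximalIdeal (RingHom.ker_isMaximal_of_surjective _ (resInf_surjective hf))).symm

include hf in
theorem isDomain_Rinf : IsDomain (Rinf f) := by
  have hloc := isLocalRing_Rinf hf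
  have : NoZeroDivisors (Rinf f) := by
    refine ⟨fun {a b} hab => ?_⟩
    obtain ⟨m, a, rfl⟩ := exists_toInf f a
    obtain ⟨n, b, rfl⟩ := exists_toInf f b
    rw [← toInf_trLE f (le_max_left m n) a, ← toInf_trLE f (le_max_right m n) b] at hab ⊢
    have := isDomain_Rm hf (max m n)
    rw [← map_mul] at hab
    have h0 : trLE f (le_max_left m n) a * trLE f (le_max_right m n) b = 0 :=
      toInf_injective f _ (by rw [hab, map_zero])
    rcases mul_eq_zero.mp h0 with h | h
    · left; rw [h, map_zero]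
    · right; rw [h, map_zero]
  exact NoZeroDivisors.to_isDomain _

end Res

variable (f : A p k d)

/-- The `p^m`-th root `x_i^(1/p^m)` in `R_∞`. -/
noncomputable def xInf (m : ℕ) (i : Fin d) : Rinf f := toInf f m (x f m i)

theorem xInf_pow (m n : ℕ) (i : Fin d) : xInf f (m + n) i ^ (p ^ n) = xInf f m i := by
  have h : m ≤ m + n := Nat.le_add_right m n
  rw [xInf, xInf, ← toInf_trLE f h (x f m i), trLE_x, map_pow, Nat.add_sub_cancel_left]

theorem xInf_succ_pow (m : ℕ) (i : Fin d) : xInf f (m + 1) i ^ p = xInf f m i := by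
  have := xInf_pow f m 1 i
  rwa [pow_one] at this

variable {f}

theorem maximalIdeal_Rinf (hf : f ∈ Ideal.span (Set.range (X : Fin d → A p k d)))
    [IsLocalRing (Rinf f)] :
    maximalIdeal (Rinf f) = Ideal.span (Set.range fun q : ℕ × Fin d => xInf f q.1 q.2) := by
  rw [maximalIdeal_Rinf_eq_ker hf]
  apply le_antisymm
  · intro z hz
    obtain ⟨m, a, rfl⟩ := exists_toInf f z
    rw [RingHom.mem_ker, resInf_toInf, ← RingHom.mem_ker, ker_res] at hz
    have h1 := Ideal.mem_map_of_mem (toInf f m) hz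
    rw [Ideal.map_span] at h1
    refine Ideal.span_mono ?_ h1
    rintro _ ⟨_, ⟨i, rfl⟩, rfl⟩
    exact ⟨(m, i), rfl⟩
  · rw [Ideal.span_le]
    rintro _ ⟨⟨m, i⟩, rfl⟩
    rw [SetLike.mem_coe, RingHom.mem_ker]
    change resInf hf (toInf f m (x f m i)) = 0
    rw [resInf_toInf, res_x]

/-- The radical of the ideal generated by the `x_i^(1/p^m)`, `m` fixed, is the maximal ideal. -/
theorem radical_span_xInf (hf : f ∈ Ideal.span (Set.range (X : Fin d → A p k d)))
    [IsLocalRing (Rinf f)] (m : ℕ) :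
    (Ideal.span (Set.range (xInf f m))).radical = maximalIdeal (Rinf f) := by
  apply le_antisymm
  · rw [(maximalIdeal.isMaximal (Rinf f)).isPrime.radical_le_iff, maximalIdeal_Rinf hf,
      Ideal.span_le]
    rintro _ ⟨i, rfl⟩
    exact Ideal.subset_span ⟨(m, i), rfl⟩
  · rw [maximalIdeal_Rinf hf, Ideal.span_le]
    rintro _ ⟨⟨n, i⟩, rfl⟩
    have h1 : xInf f (m + n) i ∈ (Ideal.span (Set.range (xInf f m))).radical := by
      refine ⟨p ^ n, ?_⟩
      rw [xInf_pow]
      exact Ideal.subset_span ⟨i, rfl⟩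
    have h2 : xInf f (n + m) i ^ (p ^ m) = xInf f n i := xInf_pow f n m i
    rw [SetLike.mem_coe]
    change xInf f n i ∈ _
    rw [← h2, add_comm n m]
    exact Ideal.pow_mem_of_mem _ h1 _ (Nat.pos_of_ne_zero (pow_ne p m))

/-- `p ≠ 0` in all `R_m` and in `R_∞` as soon as `p ≠ 0` in `R_0`. -/
theorem natCast_ne_zero (h0 : (p : Rm f 0) ≠ 0) (m : ℕ) : (p : Rm f m) ≠ 0 := by
  intro h
  apply h0
  apply trLE_injective f (Nat.zero_le m)
  rw [map_natCast, map_zero, h]

theorem natCast_ne_zero_inf (h0 : (p : Rm f 0) ≠ 0) : (p : Rinf f) ≠ 0 := by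
  intro h
  apply h0
  apply toInf_injective f 0
  rw [map_natCast, map_zero, h]

/-- `p` lies in the ideal generated by the `x_i^(p^m)`. -/
theorem p_mem_span_xInf (hf : f ∈ Ideal.span (Set.range (X : Fin d → A p k d))) :
    (p : Rinf f) ∈ Ideal.span (Set.range (xInf f 0)) := by
  have h1 := Ideal.mem_map_of_mem (toInf f 0) (p_mem_span_x hf 0)
  rw [map_natCast, Ideal.map_span, ← Set.range_comp] at h1
  exact h1

end Groth.Agent.EtDual.K375.Tower
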