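import Groth.Agent.EtDual.K375.TowerReg
import Groth.Agent.Ega41.CohenLift
import Groth.Agent.CalgA.PowSurj

/-! # Cohen presentations over the Witt vectors

A complete local Noetherian ring `R` of dimension `d`, with residue field `k` perfect of
characteristic `p` and with maximal ideal generated by `d` elements `x_i`, is
`W(k)[[X_1, …, X_d]] / (p - f)` with `f ∈ (X_1, …, X_d)`, `X_i ↦ x_i`. -/

universe u

namespace Groth.Agent.EtDual.K375.Tower

open MvPowerSeries IsLocalRing

set_option linter.unusedSectionVars false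

variable {p : ℕ} [Fact p.Prime] {k : Type u} [Field k] [CharP k p] [PerfectRing k p] {d : ℕ}

/-- The Witt vectors of the residue field lift. -/
theorem exists_lift_W (R : Type u) [CommRing R] [IsLocalRing R]
    [IsAdicComplete (maximalIdeal R) R] (π : R →+* k) (hπ : Function.Surjective π) :
    ∃ v : WittVector p k →+* R, π.comp v = WittVector.constantCoeff := by
  have hker : RingHom.ker π = maximalIdeal R :=
    eq_maximalIdeal (RingHom.ker_isMaximal_of_surjective π hπ)
  let e : (R ⧸ maximalIdeal R) ≃+* k :=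
    (Ideal.quotEquivOfEq hker.symm).trans (RingHom.quotientKerEquivOfSurjective hπ)
  have he : ∀ r, e (Ideal.Quotient.mk _ r) = π r := fun r => rfl
  have hpm : (p : R) ∈ maximalIdeal R := by
    rw [← hker, RingHom.mem_ker, map_natCast, CharP.cast_eq_zero]
  have hH : IsHausdorff (maximalIdeal R) (R ⧸ maximalIdeal R) := by
    refine ⟨fun x hx => ?_⟩
    have h1 := hx 1
    rw [pow_one, SModEq.sub_mem, sub_zero] at h1
    have h2 : (maximalIdeal R • ⊤ : Submodule R (R ⧸ maximalIdeal R)) = ⊥ := by
      rw [eq_bot_iff, Submodule.smul_le]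
      intro r hr n _
      obtain ⟨n, rfl⟩ := Ideal.Quotient.mk_surjective n
      rw [Submodule.mem_bot, ← Ideal.Quotient.mk_eq_mk, ← Submodule.Quotient.mk_smul,
        Ideal.Quotient.mk_eq_mk, Ideal.Quotient.eq_zero_iff_mem]
      exact Ideal.mul_mem_right _ _ hr
    rwa [h2, Submodule.mem_bot] at h1
  obtain ⟨v, hv⟩ := Ega41.CohenLift.exists_lift_of_cohen p (maximalIdeal_W p k)
    (WittVector.irreducible p).ne_zero (maximalIdeal R) (maximalIdeal R) le_rfl hpm
    (e.symm.toRingHom.comp WittVector.constantCoeff)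
  refine ⟨v, ?_⟩
  ext w
  have h1 : Ideal.Quotient.mk _ (v w) = e.symm (WittVector.constantCoeff w) :=
    DFunLike.congr_fun hv w
  rw [RingHom.comp_apply, ← he, h1, RingEquiv.apply_symm_apply]

/-- A surjection from a domain onto a ring of the same finite dimension is injective. -/
theorem injective_of_ringKrullDim {D R : Type*} [CommRing D] [IsDomain D] [CommRing R]
    (ψ : D →+* R) (hψ : Function.Surjective ψ) (n : ℕ) (hD : ringKrullDim D = n)
    (hR : ringKrullDim R = n) : Function.Injective ψ := by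
  rw [injective_iff_map_eq_zero]
  intro r hr
  by_contra h0
  have h1 := ringKrullDim_quotient_succ_le_of_nonZeroDivisor
    (r := r) (mem_nonZeroDivisors_of_ne_zero h0)
  have h2 : ringKrullDim R ≤ ringKrullDim (D ⧸ Ideal.span {r}) :=
    ringKrullDim_le_of_surjective
      (Ideal.Quotient.lift (Ideal.span {r}) ψ (fun a ha => by
        obtain ⟨b, rfl⟩ := Ideal.mem_span_singleton.mp ha
        rw [map_mul, hr, zero_mul]))
      (Ideal.Quotient.lift_surjective_of_surjective _ _ hψ)
  rw [hD] at h1
  rw [hR] at h2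
  have h3 : ((n : ℕ) : WithBot ℕ∞) + 1 ≤ n := (by gcongr : _ ≤ _).trans h1
  have h4 : ((n + 1 : ℕ) : WithBot ℕ∞) ≤ (n : ℕ) := by exact_mod_cast h3
  have h5 : n + 1 ≤ n := by exact_mod_cast h4
  omega

/-- **Cohen presentation** over the Witt vectors. -/
theorem exists_presentation (R : Type u) [CommRing R] [IsLocalRing R] [IsNoetherianRing R]
    [IsAdicComplete (maximalIdeal R) R] (π : R →+* k) (hπ : Function.Surjective π)
    (hdim : ringKrullDim R = d) (t : Fin d → R)
    (ht : Ideal.span (Set.range t) = maximalIdeal R) :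
    ∃ f ∈ Ideal.span (Set.range (X : Fin d → A p k d)), ∃ e : Rm f 0 ≃+* R,
      (∀ i, e (x f 0 i) = t i) ∧
      ∀ c : WittVector p k, π (e (mk f 0 (C c))) = WittVector.constantCoeff c := by
  have hker : RingHom.ker π = maximalIdeal R :=
    eq_maximalIdeal (RingHom.ker_isMaximal_of_surjective π hπ)
  obtain ⟨v, hv⟩ := exists_lift_W (p := p) R π hπ
  let _ : Algebra (WittVector p k) R := v.toAlgebra
  have htm : ∀ i, t i ∈ maximalIdeal R := fun i => ht ▸ Ideal.subset_span ⟨i, rfl⟩
  have hres : ∀ r : R, ∃ l : WittVector p k, r - algebraMap _ R l ∈ maximalIdeal R := by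
    intro r
    refine ⟨WittVector.teichmuller p (π r), ?_⟩
    rw [← hker, RingHom.mem_ker, map_sub, sub_eq_zero]
    change _ = π (v _)
    rw [show π (v _) = (π.comp v) (WittVector.teichmuller p (π r)) from rfl, hv]
    exact (WittVector.teichmuller_coeff_zero p (π r)).symm
  let φ : A p k d →ₐ[WittVector p k] R := Ega41.PowEval.powEval (maximalIdeal R) t htm
  have hφ : Function.Surjective φ :=
    CalgA.PowSurj.surjective_powEval (maximalIdeal R) hres t htm ht
  have hφX : ∀ i, φ (X i) = t i := fun i => Ega41.PowEval.powEval_X _ t htm i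
  have hφC : ∀ c, φ (C c) = v c := fun c => Ega41.PowEval.powEval_C _ t htm c
  -- the equation
  have hpm : (p : R) ∈ Ideal.span (Set.range t) := by
    rw [ht, ← hker, RingHom.mem_ker, map_natCast, CharP.cast_eq_zero]
  obtain ⟨a, ha⟩ := Ideal.mem_span_range_iff_exists_fun.mp hpm
  choose g hg using fun i => hφ (a i)
  let f : A p k d := ∑ i, g i * X i
  have hf : f ∈ Ideal.span (Set.range (X : Fin d → A p k d)) :=
    Ideal.sum_mem _ fun i _ => Ideal.mul_mem_left _ _ (Ideal.subset_span ⟨i, rfl⟩)
  have hφf : φ f = (p : R) := by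
    rw [map_sum, ← ha]
    exact Finset.sum_congr rfl fun i _ => by rw [map_mul, hφX, hg]
  have hφe : φ (eqn f 0) = 0 := by
    rw [eqn, ex_zero, map_sub, hφf, map_natCast, sub_self]
  let ψ : Rm f 0 →+* R := Ideal.Quotient.lift (Ideal.span {eqn f 0}) (φ : A p k d →+* R)
    (fun a ha => by
      obtain ⟨b, rfl⟩ := Ideal.mem_span_singleton.mp ha
      change φ _ = 0
      rw [map_mul, hφe, zero_mul])
  have hψ : ∀ g, ψ (mk f 0 g) = φ g := fun g => Ideal.Quotient.lift_mk _ _ _
  have hψs : Function.Surjective ψ := by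
    intro r
    obtain ⟨g, rfl⟩ := hφ r
    exact ⟨mk f 0 g, hψ g⟩
  have hD := isDomain_Rm hf 0
  have hψi : Function.Injective ψ :=
    injective_of_ringKrullDim ψ hψs d (ringKrullDim_Rm hf 0) hdim
  refine ⟨f, hf, RingEquiv.ofBijective ψ ⟨hψi, hψs⟩, fun i => ?_, fun c => ?_⟩
  · exact (hψ _).trans (hφX i)
  · change π (ψ (mk f 0 (C c))) = _
    rw [hψ, hφC]
    exact DFunLike.congr_fun hv c

end Groth.Agent.EtDual.K375.Tower
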