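import Mathlib

/-! # `R[[X_1, …, X_d]]` is free over itself along `X_i ↦ X_i^N`; bases along ring homomorphisms -/

namespace Groth.Agent.EtDual.K375

open MvPowerSeries

/-! ### Bases along a ring homomorphism -/

section IsBas

variable {S T : Type*} [CommRing S] [CommRing T]

/-- `e` is a basis of `T` as an `S`-module along `φ : S → T`. -/
def IsBas (φ : S →+* T) {ι : Type*} [Fintype ι] (e : ι → T) : Prop :=
  Function.Bijective fun c : ι → S => ∑ i, φ (c i) * e i

variable {φ : S →+* T} {ι : Type*} [Fintype ι] {e : ι → T}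

/-- The elements of the extended ideal. -/
theorem IsBas.mem_map_iff (h : IsBas φ e) (I : Ideal S) (t : T) :
    t ∈ I.map φ ↔ ∃ c : ι → S, (∀ i, c i ∈ I) ∧ ∑ i, φ (c i) * e i = t := by
  constructor
  · intro ht
    induction ht using Submodule.span_induction with
    | mem x hx =>
      obtain ⟨s, hs, rfl⟩ := hx
      obtain ⟨c, hc⟩ := h.2 1
      refine ⟨fun i => s * c i, fun i => I.mul_mem_right _ hs, ?_⟩
      simp only [map_mul, mul_assoc, ← Finset.mul_sum]
      rw [show ∑ i, φ (c i) * e i = 1 from hc, mul_one]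
    | zero => exact ⟨0, fun _ => I.zero_mem, by simp⟩
    | add x y _ _ hx hy =>
      obtain ⟨c, hc, rfl⟩ := hx
      obtain ⟨c', hc', rfl⟩ := hy
      exact ⟨c + c', fun i => I.add_mem (hc i) (hc' i), by
        simp [add_mul, Finset.sum_add_distrib]⟩
    | smul a x _ hx =>
      obtain ⟨c, hc, rfl⟩ := hx
      have hb : ∀ i, ∃ b : ι → S, ∑ j, φ (b j) * e j = a * e i := fun i => h.2 _
      choose b hb using hb
      refine ⟨fun j => ∑ i, c i * b i j, fun j => I.sum_mem fun i _ => I.mul_mem_right _ (hc i), ?_⟩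
      simp only [map_sum, map_mul, Finset.sum_mul, smul_eq_mul, Finset.mul_sum]
      rw [Finset.sum_comm]
      refine Finset.sum_congr rfl fun i _ => ?_
      rw [show a * (φ (c i) * e i) = φ (c i) * (a * e i) by ring, ← hb i, Finset.mul_sum]
      exact Finset.sum_congr rfl fun j _ => by ring
  · rintro ⟨c, hc, rfl⟩
    exact Ideal.sum_mem _ fun i _ => Ideal.mul_mem_right _ _ (Ideal.mem_map_of_mem φ (hc i))

/-- Bases pass to quotients. -/
theorem IsBas.quotient (h : IsBas φ e) (I : Ideal S) (J : Ideal T) (hJ : I.map φ = J)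
    (hle : I ≤ J.comap φ) :
    IsBas (Ideal.quotientMap J φ hle) (fun i => Ideal.Quotient.mk J (e i)) := by
  have key : ∀ c : ι → S, ∑ i, Ideal.quotientMap J φ hle (Ideal.Quotient.mk I (c i)) *
      Ideal.Quotient.mk J (e i) = Ideal.Quotient.mk J (∑ i, φ (c i) * e i) := by
    intro c
    simp only [Ideal.quotientMap_mk, map_sum, map_mul]
  constructor
  · intro c c' hcc
    choose b hb using fun i => Ideal.Quotient.mk_surjective (c i)
    choose b' hb' using fun i => Ideal.Quotient.mk_surjective (c' i)
    obtain rfl : (fun i => Ideal.Quotient.mk I (b i)) = c := funext hb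
    obtain rfl : (fun i => Ideal.Quotient.mk I (b' i)) = c' := funext hb'
    simp only [key] at hcc
    rw [Ideal.Quotient.eq, ← hJ, h.mem_map_iff] at hcc
    obtain ⟨a, ha, hab⟩ := hcc
    have h1 : a = b - b' := by
      apply h.1
      simp only [Pi.sub_apply, map_sub, sub_mul, Finset.sum_sub_distrib]
      exact hab
    funext i
    rw [Ideal.Quotient.eq, show b i - b' i = a i by rw [h1]; rfl]
    exact ha i
  · intro t
    obtain ⟨t, rfl⟩ := Ideal.Quotient.mk_surjective t
    obtain ⟨c, hc⟩ := h.2 t
    refine ⟨fun i => Ideal.Quotient.mk I (c i), ?_⟩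
    simp only [key]
    rw [show ∑ i, φ (c i) * e i = t from hc]

/-- The basis of `T` over `S`. -/
theorem IsBas.exists_basis [Algebra S T] (h : IsBas (algebraMap S T) e) :
    ∃ b : Module.Basis ι S T, ∀ i, b i = e i := by
  classical
  let L : (ι → S) →ₗ[S] T :=
    { toFun := fun c => ∑ i, algebraMap S T (c i) * e i
      map_add' := fun c c' => by simp [add_mul, Finset.sum_add_distrib]
      map_smul' := fun s c => by
        simp only [Pi.smul_apply, smul_eq_mul, map_mul, mul_assoc, ← Finset.mul_sum,
          RingHom.id_apply, Algebra.smul_def] }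
  let E : (ι → S) ≃ₗ[S] T := LinearEquiv.ofBijective L h
  refine ⟨Module.Basis.ofEquivFun E.symm, fun i => ?_⟩
  rw [Module.Basis.coe_ofEquivFun]
  change L (Pi.single i 1) = e i
  change ∑ j, algebraMap S T (Pi.single (M := fun _ => S) i (1 : S) j) * e j = e i
  rw [Finset.sum_eq_single i]
  · simp
  · intro j _ hj
    simp [hj]
  · simp

/-- Composition of bases. -/
theorem IsBas.comp {U : Type*} [CommRing U] {ψ : T →+* U} {κ : Type*} [Fintype κ] {e' : κ → U}
    (h : IsBas φ e) (h' : IsBas ψ e') :
    IsBas (ψ.comp φ) (fun q : ι × κ => ψ (e q.1) * e' q.2) := by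
  let F : (ι → S) → T := fun c => ∑ i, φ (c i) * e i
  let G : (κ → T) → U := fun c => ∑ i, ψ (c i) * e' i
  have : (fun c : ι × κ → S => ∑ q, (ψ.comp φ) (c q) * (ψ (e q.1) * e' q.2)) =
      G ∘ (fun c k => F (c k)) ∘ fun (c : ι × κ → S) k i => c (i, k) := by
    funext c
    simp only [Function.comp, G, F, map_sum, map_mul, Finset.sum_mul, Fintype.sum_prod_type,
      RingHom.comp_apply, mul_assoc]
    exact Finset.sum_comm
  rw [IsBas, this]
  refine Function.Bijective.comp (show Function.Bijective G from h')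
    (Function.Bijective.comp ?_ ?_)
  · constructor
    · intro c c' hcc
      funext k
      exact h.1 (congrFun hcc k)
    · intro t
      choose c hc using fun k => h.2 (t k)
      exact ⟨c, funext hc⟩
  · constructor
    · intro c c' hcc
      funext q
      exact congrFun (congrFun hcc q.2) q.1
    · intro c
      exact ⟨fun q => c q.2 q.1, rfl⟩

theorem IsBas.injective [Nonempty ι] (h : IsBas φ e) (h0 : ∃ i, e i = 1) :
    Function.Injective φ := by
  classical
  obtain ⟨i, hi⟩ := h0
  have : ∀ s, ∑ j, φ (Pi.single (M := fun _ => S) i s j) * e j = φ s := by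
    intro s
    rw [Finset.sum_eq_single i]
    · simp [hi]
    · intro j _ hj
      simp [hj]
    · simp
  intro s s' hs
  have := h.1 (a₁ := Pi.single (M := fun _ => S) i s) (a₂ := Pi.single (M := fun _ => S) i s')
    (by simp only [this, hs])
  simpa using congrFun this i

end IsBas

/-! ### Power series -/

section Pow

variable {d : ℕ} {R : Type*} [CommRing R] (N : ℕ) (hN : N ≠ 0)

/-- The exponent `a + N b`. -/
noncomputable def expo (a : Fin d → Fin N) (b : Fin d →₀ ℕ) : Fin d →₀ ℕ :=
  Finsupp.equivFunOnFinite.symm fun i => (a i : ℕ) + N * b i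

@[simp]
theorem expo_apply (a : Fin d → Fin N) (b : Fin d →₀ ℕ) (i : Fin d) :
    expo N a b i = (a i : ℕ) + N * b i := rfl

include hN in
theorem exists_expo (c : Fin d →₀ ℕ) : ∃ a b, expo N a b = c := by
  refine ⟨fun i => ⟨c i % N, Nat.mod_lt _ (Nat.pos_of_ne_zero hN)⟩,
    Finsupp.equivFunOnFinite.symm fun i => c i / N, ?_⟩
  ext i
  simp [Nat.mod_add_div]

/-- The exponent `a` of the monomial basis. -/
noncomputable def boxExp (a : Fin d → Fin N) : Fin d →₀ ℕ :=
  Finsupp.equivFunOnFinite.symm fun i => (a i : ℕ)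

@[simp]
theorem boxExp_apply (a : Fin d → Fin N) (i : Fin d) : boxExp N a i = (a i : ℕ) := rfl

/-- The monomials `X^a`, `0 ≤ a_i < N`. -/
noncomputable def mon (a : Fin d → Fin N) : MvPowerSeries (Fin d) R := monomial (boxExp N a) 1

theorem mon_eq_prod (a : Fin d → Fin N) :
    (mon N a : MvPowerSeries (Fin d) R) = ∏ i, X i ^ (a i : ℕ) := by
  rw [mon, monomial_eq', map_one, one_mul, Finsupp.prod_fintype _ _ (fun i => pow_zero _)]
  rfl

theorem coeff_expo (h : (Fin d → Fin N) → MvPowerSeries (Fin d) R) (a : Fin d → Fin N)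
    (b : Fin d →₀ ℕ) :
    coeff (expo N a b) (∑ a', expand N hN (h a') * mon N a') = coeff b (h a) := by
  classical
  rw [map_sum, Finset.sum_eq_single a]
  · rw [mul_comm, mon, coeff_monomial_mul, if_pos, one_mul]
    · have : expo N a b - boxExp N a = N • b := by
        ext i
        simp
      rw [this, coeff_expand_smul]
    · intro i
      simp
  · intro a' _ ha'
    rw [mul_comm, mon, coeff_monomial_mul]
    split_ifs with hle
    · rw [one_mul]
      obtain ⟨i, hi⟩ : ∃ i, a' i ≠ a i := by
        by_contra! hc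
        exact ha' (funext hc)
      refine coeff_expand_of_not_dvd N hN _ (i := i) ?_
      have h1 : (a' i : ℕ) ≤ (a i : ℕ) + N * b i := hle i
      rw [Finsupp.tsub_apply, expo_apply, boxExp_apply]
      intro hdvd
      apply hi
      apply Fin.ext
      have h2 : (a' i : ℕ) ≡ (a i : ℕ) + N * b i [MOD N] := (Nat.modEq_iff_dvd' h1).mpr hdvd
      have h3 : (a' i : ℕ) ≡ (a i : ℕ) [MOD N] := by
        refine h2.trans ?_
        simp [Nat.ModEq]
      rw [Nat.ModEq, Nat.mod_eq_of_lt (a' i).2, Nat.mod_eq_of_lt (a i).2] at h3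
      exact h3
    · rfl
  · simp

/-- `R[[X]]` is free along `X_i ↦ X_i^N` with basis the monomials `X^a`, `0 ≤ a_i < N`. -/
theorem isBas_expand :
    IsBas (expand (σ := Fin d) (R := R) N hN).toRingHom (fun a => mon (R := R) N a) := by
  constructor
  · intro h h' hh
    funext a
    ext b
    have h1 : ∑ a', expand N hN (h a') * mon N a' = ∑ a', expand N hN (h' a') * mon N a' := hh
    rw [← coeff_expo N hN h a b, ← coeff_expo N hN h' a b, h1]
  · intro g
    let h : (Fin d → Fin N) → MvPowerSeries (Fin d) R := fun a b => coeff (expo N a b) g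
    refine ⟨h, ?_⟩
    change ∑ a', expand N hN (h a') * mon N a' = g
    ext c
    obtain ⟨a, b, rfl⟩ := exists_expo N hN c
    rw [coeff_expo]
    rfl

end Pow

end Groth.Agent.EtDual.K375
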