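import Groth.Agent.EtDual.K375.TowerCoh
import Groth.Agent.EtDual.K375.Cohen

/-! # Reduction of a complete regular local ring to its tower -/

set_option autoImplicit false

universe u

open CategoryTheory CategoryTheory.Limits AlgebraicGeometry

namespace Groth.Agent.EtDual.K375.Tower

open MvPowerSeries IsLocalRing

variable {p : ℕ} [Fact p.Prime] {k : Type u} [Field k] [CharP k p] {d : ℕ} [PerfectRing k p]

/-- A complete local Noetherian ring `R` of dimension `d` with residue field `k` perfect of
characteristic `p` and maximal ideal generated by `t_1, …, t_d` maps to the colimit `R_∞` of a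
tower, `t_i ↦ x_i`, and this map induces injections on étale cohomology with coefficients of torsion
prime to `p`. -/
theorem exists_tower (R : Type u) [CommRing R] [IsLocalRing R] [IsNoetherianRing R]
    [IsAdicComplete (maximalIdeal R) R] (π : R →+* k) (hπ : Function.Surjective π)
    (hdim : ringKrullDim R = d) (t : Fin d → R)
    (ht : Ideal.span (Set.range t) = maximalIdeal R) :
    ∃ f ∈ Ideal.span (Set.range (X : Fin d → A p k d)), ∃ φ : R →+* Rinf f,
      Function.Injective φ ∧ (∀ i, φ (t i) = xInf f 0 i) ∧
      (Ideal.span (Set.range t)).map φ = Ideal.span (Set.range (xInf f 0)) ∧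
      ∀ N : ℕ, p.Coprime N → K850.CohInj N (CommRingCat.ofHom φ) := by
  obtain ⟨f, hf, e, he, -⟩ := exists_presentation (p := p) R π hπ hdim t ht
  have hx : ∀ i, e.symm (t i) = x f 0 i := fun i => by rw [← he i, e.symm_apply_apply]
  have h2 : ∀ i, (toInf f 0).comp (e.symm : R →+* Rm f 0) (t i) = xInf f 0 i := fun i =>
    congrArg (toInf f 0) (hx i)
  refine ⟨f, hf, (toInf f 0).comp (e.symm : R →+* Rm f 0),
    (toInf_injective f 0).comp e.symm.injective, h2, ?_, fun N hN => ?_⟩
  · rw [Ideal.map_span, ← Set.range_comp]
    congr 2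
    funext i
    exact h2 i
  · have h1 : IsIso (CommRingCat.ofHom (e.symm : R →+* Rm f 0)) :=
      (e.symm.toCommRingCatIso : CommRingCat.of R ≅ CommRingCat.of (Rm f 0)).isIso_hom
    have h3 := (K850.CohInj.of_isIso (n := N) (CommRingCat.ofHom (e.symm : R →+* Rm f 0))).comp
      (cohInj_toInf f hf hN 0)
    exact h3

end Groth.Agent.EtDual.K375.Tower
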