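import Mathlib.Algebra.Colimit.Ring
import Groth.Agent.EtDual.K850.CohInj

/-! # Sequential direct limits and injectivity on étale cohomology -/

set_option autoImplicit false

universe u

open CategoryTheory CategoryTheory.Limits AlgebraicGeometry

namespace Groth.Agent.EtDual.K375.SeqCoh

variable {G : ℕ → Type u} [∀ i, CommRing (G i)] (f : ∀ i j, i ≤ j → G i →+* G j)
  [hD : DirectedSystem G fun i j h => f i j h]

include hD in
theorem f_f {i j l : ℕ} (h : i ≤ j) (h' : j ≤ l) (a : G i) :
    f j l h' (f i j h a) = f i l (h.trans h') a :=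
  DirectedSystem.map_map (f := fun i j h => (f i j h : G i → G j)) h h' a

include hD in
theorem f_self (i : ℕ) (a : G i) : f i i le_rfl a = a :=
  DirectedSystem.map_self (f := fun i j h => (f i j h : G i → G j)) a

/-- The system `j ↦ G (m+j)`. -/
noncomputable def sys (m : ℕ) : ULift.{u} ℕ ⥤ CommRingCat.{u} where
  obj j := CommRingCat.of (G (m + j.down))
  map h := CommRingCat.ofHom (f _ _ (Nat.add_le_add_left (ULift.down_le.mpr (leOfHom h)) m))
  map_id _ := CommRingCat.hom_ext (RingHom.ext fun a => f_self f _ a)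
  map_comp g h := CommRingCat.hom_ext (RingHom.ext fun a =>
    (f_f f (Nat.add_le_add_left (ULift.down_le.mpr (leOfHom g)) m)
      (Nat.add_le_add_left (ULift.down_le.mpr (leOfHom h)) m) a).symm)

/-- The cocone on the direct limit. -/
noncomputable def coc (m : ℕ) : Cocone (sys f m) where
  pt := CommRingCat.of (Ring.DirectLimit G fun i j h => f i j h)
  ι :=
    { app := fun j => CommRingCat.ofHom (Ring.DirectLimit.of G (fun i j h => f i j h) (m + j.down))
      naturality := fun _ _ h => CommRingCat.hom_ext (RingHom.ext fun a =>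
        Ring.DirectLimit.of_f (Nat.add_le_add_left (ULift.down_le.mpr (leOfHom h)) m) a) }

/-- The compatibility of the maps to a cocone. -/
theorem compat (m : ℕ) (s : Cocone (sys f m)) (i j : ℕ) (h : i ≤ j) (a : G i) :
    ((s.ι.app ⟨j⟩).hom.comp (f j (m + j) (Nat.le_add_left j m))) (f i j h a) =
      ((s.ι.app ⟨i⟩).hom.comp (f i (m + i) (Nat.le_add_left i m))) a := by
  have h1 := s.w (homOfLE (show (⟨i⟩ : ULift.{u} ℕ) ≤ ⟨j⟩ from h))
  have h2 : (s.ι.app ⟨j⟩).hom (f (m + i) (m + j) (Nat.add_le_add_left h m)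
      (f i (m + i) (Nat.le_add_left i m) a)) =
      (s.ι.app ⟨i⟩).hom (f i (m + i) (Nat.le_add_left i m) a) :=
    congrArg (fun z => z.hom (f i (m + i) (Nat.le_add_left i m) a)) h1
  rw [f_f] at h2
  change (s.ι.app ⟨j⟩).hom (f j (m + j) (Nat.le_add_left j m) (f i j h a)) =
    (s.ι.app ⟨i⟩).hom (f i (m + i) (Nat.le_add_left i m) a)
  rw [f_f]
  exact h2

/-- The map out of the direct limit. -/
noncomputable def desc (m : ℕ) (s : Cocone (sys f m)) :
    (Ring.DirectLimit G fun i j h => f i j h) →+* s.pt :=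
  Ring.DirectLimit.lift G (fun i j h => f i j h) s.pt
    (fun j => (s.ι.app ⟨j⟩).hom.comp (f j (m + j) (Nat.le_add_left j m))) (compat f m s)

theorem desc_of (m : ℕ) (s : Cocone (sys f m)) (j : ℕ) (a : G j) :
    desc f m s (Ring.DirectLimit.of G (fun i j h => f i j h) j a) =
      (s.ι.app ⟨j⟩).hom (f j (m + j) (Nat.le_add_left j m) a) :=
  Ring.DirectLimit.lift_of (G := G) (f := fun i j h => f i j h) s.pt
    (fun j => (s.ι.app ⟨j⟩).hom.comp (f j (m + j) (Nat.le_add_left j m))) (compat f m s) j a

/-- The direct limit is the colimit of the `G (m+j)`. -/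
noncomputable def isColimitCoc (m : ℕ) : IsColimit (coc f m) where
  desc s := CommRingCat.ofHom (desc f m s)
  fac s j := by
    refine CommRingCat.hom_ext (RingHom.ext fun a => ?_)
    have h1 := s.w (homOfLE (show j ≤ (⟨m + j.down⟩ : ULift.{u} ℕ) from Nat.le_add_left _ _))
    exact (desc_of f m s _ a).trans (congrArg (fun z => z.hom a) h1)
  uniq s g hg := by
    refine CommRingCat.hom_ext (RingHom.ext fun z => ?_)
    obtain ⟨j, a, rfl⟩ := Ring.DirectLimit.exists_of z
    have h1 : Ring.DirectLimit.of G (fun i j h => f i j h) (m + j)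
        (f j (m + j) (Nat.le_add_left j m) a) = Ring.DirectLimit.of G (fun i j h => f i j h) j a :=
      Ring.DirectLimit.of_f (Nat.le_add_left j m) a
    have h2 : g.hom (Ring.DirectLimit.of G (fun i j h => f i j h) (m + j)
        (f j (m + j) (Nat.le_add_left j m) a)) =
        (s.ι.app ⟨j⟩).hom (f j (m + j) (Nat.le_add_left j m) a) :=
      congrArg (fun z => z.hom (f j (m + j) (Nat.le_add_left j m) a)) (hg ⟨j⟩)
    rw [h1] at h2
    exact h2.trans (desc_of f m s j a).symm

theorem cohInj_of {N : ℕ} (m : ℕ)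
    (h : ∀ j (hj : m ≤ j), K850.CohInj N (CommRingCat.ofHom (f m j hj))) :
    K850.CohInj N (CommRingCat.ofHom (Ring.DirectLimit.of G (fun i j h => f i j h) m)) := by
  refine K850.CohInj.colim (sys f m) (coc f m) (isColimitCoc f m)
    (fun j => CommRingCat.ofHom (f m (m + j.down) (Nat.le_add_right m j.down))) ?_
    (fun j => h _ _) _ ?_
  · intro i j h
    exact CommRingCat.hom_ext (RingHom.ext fun a => f_f f _ _ a)
  · intro j
    exact CommRingCat.hom_ext (RingHom.ext fun a =>
      Ring.DirectLimit.of_f (G := G) (f := fun i j h => f i j h) (Nat.le_add_right m j.down) a)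

end Groth.Agent.EtDual.K375.SeqCoh
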