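import Groth.Agent.EtDual.K375.TowerInf
import Groth.Agent.EtDual.K375.SeqCoh

/-! # The tower induces injections on étale cohomology -/

set_option autoImplicit false

universe u

open CategoryTheory CategoryTheory.Limits AlgebraicGeometry

namespace Groth.Agent.EtDual.K375.Tower

open MvPowerSeries IsLocalRing

set_option linter.unusedSectionVars false

variable {p : ℕ} [Fact p.Prime] {k : Type u} [Field k] [CharP k p] {d : ℕ} (f : A p k d)
variable [PerfectRing k p]

/-- The transition maps induce injections on étale cohomology, with coefficients of torsion prime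
to `p`. -/
theorem cohInj_trLE (hf : f ∈ Ideal.span (Set.range (X : Fin d → A p k d))) {N : ℕ}
    (hN : p.Coprime N) {m n : ℕ} (h : m ≤ n) :
    K850.CohInj N (CommRingCat.ofHom (trLE f h)) := by
  let _ := (trLE f h).toAlgebra
  have := isDomain_Rm hf m
  have : Module.Free (Rm f m) (Rm f n) := (trLE_free f h).1
  have : Module.Finite (Rm f m) (Rm f n) := (trLE_free f h).2
  refine K850.CohInj.of_free (Rm f m) (Rm f n) ?_
  rw [trLE_finrank f h]
  exact Nat.Coprime.pow_left _ hN

/-- `R_m → R_∞` induces injections on étale cohomology, with coefficients of torsion prime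
to `p`. -/
theorem cohInj_toInf (hf : f ∈ Ideal.span (Set.range (X : Fin d → A p k d))) {N : ℕ}
    (hN : p.Coprime N) (m : ℕ) : K850.CohInj N (CommRingCat.ofHom (toInf f m)) :=
  SeqCoh.cohInj_of (G := Rm f) (f := fun _ _ h => trLE f h) m
    fun _ hj => cohInj_trLE f hf hN hj

end Groth.Agent.EtDual.K375.Tower
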