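import Mathlib

/-! # The tower `R_m = W(k)[[X_1^(1/p^m), …, X_d^(1/p^m)]] / (p - f)` (absolute purity, nodes COHEN + TOWER)

`A p k d = W(k)[[X_1, …, X_d]]`, `ex m : A → A` the `W(k)`-endomorphism `X_i ↦ X_i^(p^m)`,
`Rm f m = A / (p - ex m f)`; the transition map `Rm f m → Rm f n` (`m ≤ n`) is induced by
`ex (n - m)`, so that the class of `X_i` in `Rm f m` is a `p^m`-th root of the class of `X_i` in
`Rm f 0`. -/

universe u

namespace Groth.Agent.EtDual.K375.Tower

open MvPowerSeries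

set_option linter.unusedSectionVars false

section Ex

variable (p : ℕ) [Fact p.Prime] (k : Type u) [Field k] [CharP k p] (d : ℕ)

/-- `W(k)[[X_1, …, X_d]]`. -/
abbrev A : Type u := MvPowerSeries (Fin d) (WittVector p k)

theorem pow_ne (m : ℕ) : p ^ m ≠ 0 := pow_ne_zero _ (Fact.out : p.Prime).ne_zero

/-- The `W(k)`-endomorphism `X_i ↦ X_i^(p^m)` of `W(k)[[X_1, …, X_d]]`. -/
noncomputable def ex (m : ℕ) : A p k d →+* A p k d :=
  (expand (σ := Fin d) (R := WittVector p k) (p ^ m) (pow_ne p m)).toRingHom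

theorem ex_apply (m : ℕ) (g : A p k d) : ex p k d m g = expand (p ^ m) (pow_ne p m) g := rfl

@[simp]
theorem ex_X (m : ℕ) (i : Fin d) : ex p k d m (X i) = X i ^ (p ^ m) := by
  rw [ex_apply, expand_X]

@[simp]
theorem ex_C (m : ℕ) (c : WittVector p k) : ex p k d m (C c) = C c := by
  rw [ex_apply, expand_C]

theorem expand_congr {a b : ℕ} (ha : a ≠ 0) (hb : b ≠ 0) (h : a = b) (g : A p k d) :
    expand a ha g = expand b hb g := by
  subst h; rfl

theorem ex_ex (m n : ℕ) (g : A p k d) : ex p k d m (ex p k d n g) = ex p k d (m + n) g := by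
  rw [ex_apply, ex_apply, ex_apply, ← expand_mul]
  exact expand_congr p k d _ _ (pow_add p m n).symm g

@[simp]
theorem ex_zero (g : A p k d) : ex p k d 0 g = g := by
  rw [ex_apply]
  rw [expand_congr p k d (pow_ne p 0) one_ne_zero (pow_zero p) g, expand_one_apply]

theorem ex_comp (m n : ℕ) : (ex p k d m).comp (ex p k d n) = ex p k d (m + n) :=
  RingHom.ext fun g => ex_ex p k d m n g

end Ex

variable {p : ℕ} [Fact p.Prime] {k : Type u} [Field k] [CharP k p] {d : ℕ}

/-- The equation `p - f(X^(p^m))`. -/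
noncomputable def eqn (f : A p k d) (m : ℕ) : A p k d := (p : A p k d) - ex p k d m f

theorem ex_eqn (f : A p k d) (m n : ℕ) : ex p k d n (eqn f m) = eqn f (n + m) := by
  simp only [eqn, map_sub, map_natCast, ex_ex]

/-- `R_m = W(k)[[X_1^(1/p^m), …, X_d^(1/p^m)]] / (p - f)`, in the variables `X_i^(1/p^m)`. -/
abbrev Rm (f : A p k d) (m : ℕ) : Type u := A p k d ⧸ Ideal.span {eqn f m}

/-- The projection `W(k)[[X]] → R_m`. -/
noncomputable abbrev mk (f : A p k d) (m : ℕ) : A p k d →+* Rm f m :=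
  Ideal.Quotient.mk (Ideal.span {eqn f m})

theorem le_comap (f : A p k d) {m n : ℕ} (h : m ≤ n) :
    Ideal.span {eqn f m} ≤ (Ideal.span {eqn f n}).comap (ex p k d (n - m)) := by
  rw [Ideal.span_singleton_le_iff_mem, Ideal.mem_comap, ex_eqn, Nat.sub_add_cancel h]
  exact Ideal.mem_span_singleton_self _

/-- The transition map `R_m → R_n`, `m ≤ n`. -/
noncomputable def trLE (f : A p k d) {m n : ℕ} (h : m ≤ n) : Rm f m →+* Rm f n :=
  Ideal.quotientMap _ (ex p k d (n - m)) (le_comap f h)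

/-- The transition map `R_m → R_(m+1)`. -/
noncomputable def tr (f : A p k d) (m : ℕ) : Rm f m →+* Rm f (m + 1) := trLE f (Nat.le_succ m)

theorem trLE_mk (f : A p k d) {m n : ℕ} (h : m ≤ n) (g : A p k d) :
    trLE f h (mk f m g) = mk f n (ex p k d (n - m) g) := by
  rw [trLE]; exact Ideal.quotientMap_mk

theorem tr_mk (f : A p k d) (m : ℕ) (g : A p k d) :
    tr f m (mk f m g) = mk f (m + 1) (ex p k d 1 g) := by
  rw [tr, trLE_mk, show m + 1 - m = 1 by omega]

@[simp]
theorem trLE_refl (f : A p k d) (m : ℕ) (a : Rm f m) : trLE f (le_refl m) a = a := by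
  obtain ⟨g, rfl⟩ := Ideal.Quotient.mk_surjective a
  rw [trLE_mk, Nat.sub_self, ex_zero]

theorem trLE_trans (f : A p k d) {l m n : ℕ} (h : l ≤ m) (h' : m ≤ n) (a : Rm f l) :
    trLE f h' (trLE f h a) = trLE f (h.trans h') a := by
  obtain ⟨g, rfl⟩ := Ideal.Quotient.mk_surjective a
  rw [trLE_mk, trLE_mk, trLE_mk, ex_ex, show n - m + (m - l) = n - l by omega]

instance directedSystem (f : A p k d) :
    DirectedSystem (Rm f) fun _ _ h => (trLE f h : Rm f _ → Rm f _) where
  map_self _ a := trLE_refl f _ a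
  map_map _ _ _ h h' a := trLE_trans f h h' a

/-- `R_∞ = colim R_m`. -/
abbrev Rinf (f : A p k d) : Type u := Ring.DirectLimit (Rm f) fun _ _ h => trLE f h

/-- `R_m → R_∞`. -/
noncomputable def toInf (f : A p k d) (m : ℕ) : Rm f m →+* Rinf f :=
  Ring.DirectLimit.of (Rm f) (fun _ _ h => trLE f h) m

@[simp]
theorem toInf_trLE (f : A p k d) {m n : ℕ} (h : m ≤ n) (a : Rm f m) :
    toInf f n (trLE f h a) = toInf f m a := Ring.DirectLimit.of_f h a

theorem exists_toInf (f : A p k d) (z : Rinf f) : ∃ m a, toInf f m a = z :=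
  Ring.DirectLimit.exists_of z

/-- The parameter `X_i` of `R_m`. -/
noncomputable def x (f : A p k d) (m : ℕ) (i : Fin d) : Rm f m := mk f m (X i)

theorem trLE_x (f : A p k d) {m n : ℕ} (h : m ≤ n) (i : Fin d) :
    trLE f h (x f m i) = x f n i ^ (p ^ (n - m)) := by
  rw [x, trLE_mk, ex_X, map_pow]
  rfl

theorem tr_x (f : A p k d) (m : ℕ) (i : Fin d) : tr f m (x f m i) = x f (m + 1) i ^ p := by
  rw [x, tr_mk, ex_X, map_pow, pow_one]
  rfl

/-- In `R_m` one has `p = f(X^(p^m))`. -/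
theorem natCast_p (f : A p k d) (m : ℕ) : (p : Rm f m) = mk f m (ex p k d m f) := by
  have h : mk f m (eqn f m) = 0 := Ideal.Quotient.eq_zero_iff_mem.mpr
    (Ideal.mem_span_singleton_self _)
  have h2 : mk f m ((p : A p k d) - ex p k d m f) = 0 := h
  rw [map_sub, map_natCast, sub_eq_zero] at h2
  exact h2

end Groth.Agent.EtDual.K375.Tower
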