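import Groth.Agent.EtDual.K375.TowerDef
import Groth.Agent.EtDual.K375.ExpandFree

/-! # The transition maps of the tower are finite free -/

universe u

namespace Groth.Agent.EtDual.K375.Tower

open MvPowerSeries

set_option linter.unusedSectionVars false

variable {p : ℕ} [Fact p.Prime] {k : Type u} [Field k] [CharP k p] {d : ℕ}

theorem isBas_ex (n : ℕ) :
    IsBas (ex p k d n) (fun a : Fin d → Fin (p ^ n) => ∏ i, (X i : A p k d) ^ (a i : ℕ)) := by
  have h := isBas_expand (d := d) (R := WittVector p k) (p ^ n) (pow_ne p n)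
  simp only [mon_eq_prod] at h
  exact h

theorem map_span_eqn (f : A p k d) {m n : ℕ} (h : m ≤ n) :
    (Ideal.span {eqn f m}).map (ex p k d (n - m)) = Ideal.span {eqn f n} := by
  rw [Ideal.map_span, Set.image_singleton, ex_eqn, Nat.sub_add_cancel h]

/-- `R_n` is free over `R_m` with basis the monomials `x_n^a`, `0 ≤ a_i < p^(n-m)`. -/
theorem isBas_trLE (f : A p k d) {m n : ℕ} (h : m ≤ n) :
    IsBas (trLE f h) (fun a : Fin d → Fin (p ^ (n - m)) => ∏ i, x f n i ^ (a i : ℕ)) := by
  have h1 := (isBas_ex (p := p) (k := k) (d := d) (n - m)).quotient (Ideal.span {eqn f m})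
    (Ideal.span {eqn f n}) (map_span_eqn f h) (le_comap f h)
  simp only [map_prod, map_pow] at h1
  exact h1

theorem isBas_tr (f : A p k d) (m : ℕ) :
    IsBas (tr f m) (fun a : Fin d → Fin p => ∏ i, x f (m + 1) i ^ (a i : ℕ)) := by
  have h := isBas_trLE f (Nat.le_succ m)
  have : ∀ (N : ℕ) (hN : N = p), IsBas (tr f m)
      (fun a : Fin d → Fin N => ∏ i, x f (m + 1) i ^ (a i : ℕ)) →
      IsBas (tr f m) (fun a : Fin d → Fin p => ∏ i, x f (m + 1) i ^ (a i : ℕ)) := by
    rintro N rfl h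
    exact h
  exact this _ (by rw [Nat.succ_sub (le_refl m), Nat.sub_self, pow_one]) h

theorem trLE_injective (f : A p k d) {m n : ℕ} (h : m ≤ n) : Function.Injective (trLE f h) := by
  have hp : 0 < p ^ (n - m) := Nat.pos_of_ne_zero (pow_ne p _)
  haveI : Nonempty (Fin d → Fin (p ^ (n - m))) := ⟨fun _ => ⟨0, hp⟩⟩
  exact (isBas_trLE f h).injective ⟨fun _ => ⟨0, hp⟩, by simp⟩

/-- `R_n` is finite free of rank `p^(d (n-m))` over `R_m`. -/
theorem trLE_free (f : A p k d) {m n : ℕ} (h : m ≤ n) :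
    letI := (trLE f h).toAlgebra
    Module.Free (Rm f m) (Rm f n) ∧ Module.Finite (Rm f m) (Rm f n) := by
  letI := (trLE f h).toAlgebra
  obtain ⟨b, -⟩ := IsBas.exists_basis (S := Rm f m) (T := Rm f n) (isBas_trLE f h)
  exact ⟨Module.Free.of_basis b, Module.Finite.of_basis b⟩

theorem trLE_finrank (f : A p k d) {m n : ℕ} (h : m ≤ n) [Nontrivial (Rm f m)] :
    letI := (trLE f h).toAlgebra
    Module.finrank (Rm f m) (Rm f n) = p ^ (d * (n - m)) := by
  letI := (trLE f h).toAlgebra
  obtain ⟨b, -⟩ := IsBas.exists_basis (S := Rm f m) (T := Rm f n) (isBas_trLE f h)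
  rw [Module.finrank_eq_card_basis b, Fintype.card_fun, Fintype.card_fin, Fintype.card_fin,
    ← pow_mul, mul_comm]

theorem trLE_finite (f : A p k d) {m n : ℕ} (h : m ≤ n) : (trLE f h).Finite :=
  (trLE_free f h).2

theorem toInf_injective (f : A p k d) (m : ℕ) : Function.Injective (toInf f m) :=
  Ring.DirectLimit.of_injective _ (fun _ _ h => trLE_injective f h) m

end Groth.Agent.EtDual.K375.Tower
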