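import Groth.Agent.EtDual.K375.TowerFree
import Groth.Agent.Ega41.PowComplete
import Groth.Agent.CalgA.RegBasic
import Groth.Agent.CalgA.CohenRing
import Groth.Agent.CalgB.PowSer
import Groth.Agent.CalgB.PowSerMap
import Groth.Agent.Ega4C.CompleteCM
import Groth.Agent.Ega4A.PowReg

/-! # The rings of the tower are complete regular local of dimension `d` -/

universe u

namespace Groth.Agent.EtDual.K375.Tower

open MvPowerSeries IsLocalRing

set_option linter.unusedSectionVars false

variable {p : ℕ} [Fact p.Prime] {k : Type u} [Field k] [CharP k p] [PerfectRing k p] {d : ℕ}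

section W

variable (p k)

/-- The maximal ideal of `W(k)` is generated by `p`. -/
theorem maximalIdeal_W : maximalIdeal (WittVector p k) = Ideal.span {(p : WittVector p k)} := by
  have h : (Ideal.span {(p : WittVector p k)}).IsMaximal :=
    PrincipalIdealRing.isMaximal_of_irreducible (WittVector.irreducible p)
  exact (eq_maximalIdeal h).symm

instance isAdicComplete_W : IsAdicComplete (maximalIdeal (WittVector p k)) (WittVector p k) := by
  rw [maximalIdeal_W]
  infer_instance

theorem isCohenRing_W : CAlg.IsCohenRing (WittVector p k) :=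
  ⟨inferInstance, inferInstance, isAdicComplete_W p k, p, Fact.out, maximalIdeal_W p k⟩

end W

section A

variable (p k d)

instance isRegularLocalRing_A : IsRegularLocalRing (A p k d) :=
  Ega4A.PowReg.isRegularLocalRing_mvPowerSeries (WittVector p k) d

instance isDomain_A : IsDomain (A p k d) := CalgA.RegBasic.isDomain (A p k d)

instance isAdicComplete_A : IsAdicComplete (maximalIdeal (A p k d)) (A p k d) :=
  CalgB.PowSer.isAdicComplete_mvPowerSeries d

theorem ringKrullDim_A : ringKrullDim (A p k d) = (d + 1 : ℕ) := by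
  rw [CalgB.PowSerMap.ringKrullDim_mvPowerSeries,
    (IsDiscreteValuationRing.ringKrullDim_eq_one (WittVector p k))]
  push_cast
  rw [add_comm]

/-- Membership in the maximal ideal of `A`. -/
theorem mem_maximalIdeal_A (g : A p k d) :
    g ∈ maximalIdeal (A p k d) ↔ (p : WittVector p k) ∣ constantCoeff g := by
  rw [mem_maximalIdeal, mem_nonunits_iff, MvPowerSeries.isUnit_iff_constantCoeff,
    ← mem_nonunits_iff, ← mem_maximalIdeal, maximalIdeal_W, Ideal.mem_span_singleton]

theorem maximalIdeal_A :
    maximalIdeal (A p k d) = Ideal.span {(p : A p k d)} ⊔ Ideal.span (Set.range X) := by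
  apply le_antisymm
  · intro g hg
    rw [mem_maximalIdeal_A] at hg
    obtain ⟨c, hc⟩ := hg
    have h1 : g - (p : A p k d) * C c ∈
        Ideal.span (Set.range (X : Fin d → MvPowerSeries (Fin d) (WittVector p k))) := by
      rw [Ega41.PowComplete.mem_span_X_iff]
      simp [hc]
    rw [show g = (p : A p k d) * C c + (g - (p : A p k d) * C c) by ring]
    exact Ideal.add_mem _ (Ideal.mul_mem_right _ _ (le_sup_left (α := Ideal (A p k d))
      (Ideal.mem_span_singleton_self _))) (le_sup_right (α := Ideal (A p k d)) h1)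
  · rw [sup_le_iff, Ideal.span_singleton_le_iff_mem, Ideal.span_le]
    constructor
    · rw [mem_maximalIdeal_A]
      simp
    · rintro _ ⟨i, rfl⟩
      rw [SetLike.mem_coe, mem_maximalIdeal_A]
      simp

/-- The evaluation `A → W(k)`, `X ↦ 0`, maps `m_A^2` to `(p^2)`. -/
theorem constantCoeff_of_mem_sq {g : A p k d} (hg : g ∈ maximalIdeal (A p k d) ^ 2) :
    (p : WittVector p k) ^ 2 ∣ constantCoeff g := by
  have h1 : maximalIdeal (A p k d) ≤ (Ideal.span {(p : WittVector p k)}).comap
      (constantCoeff : A p k d →+* WittVector p k) := by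
    intro g hg
    rw [Ideal.mem_comap, Ideal.mem_span_singleton]
    exact (mem_maximalIdeal_A p k d g).mp hg
  have h2 := Ideal.pow_right_mono h1 2 hg
  have h3 := Ideal.le_comap_pow (constantCoeff : A p k d →+* WittVector p k) 2 h2
  rwa [Ideal.mem_comap, Ideal.span_singleton_pow, Ideal.mem_span_singleton] at h3

end A

/-- `ex m f` has constant coefficient `0` if `f` has. -/
theorem constantCoeff_ex (m : ℕ) (f : A p k d) :
    constantCoeff (ex p k d m f) = constantCoeff f := by
  rw [ex_apply, constantCoeff_expand]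

variable {f : A p k d} (hf : f ∈ Ideal.span (Set.range (X : Fin d → A p k d)))

include hf

theorem constantCoeff_eqn (m : ℕ) : constantCoeff (eqn f m) = (p : WittVector p k) := by
  have h0 : constantCoeff f = 0 := (Ega41.PowComplete.mem_span_X_iff _ _ f).mp hf
  rw [eqn, map_sub, constantCoeff_ex, h0, sub_zero, map_natCast]

theorem eqn_mem (m : ℕ) : eqn f m ∈ maximalIdeal (A p k d) := by
  rw [mem_maximalIdeal_A, constantCoeff_eqn hf]

theorem eqn_notMem_sq (m : ℕ) : eqn f m ∉ maximalIdeal (A p k d) ^ 2 := by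
  intro h
  have h1 := constantCoeff_of_mem_sq p k d h
  rw [constantCoeff_eqn hf] at h1
  obtain ⟨c, hc⟩ := h1
  have hirr := WittVector.irreducible (p := p) (k := k)
  have h2 : (1 : WittVector p k) = p * c := by
    apply mul_left_cancel₀ hirr.ne_zero
    rw [mul_one]
    linear_combination hc
  exact hirr.not_isUnit (IsUnit.of_mul_eq_one c h2.symm)

theorem isRegularLocalRing_Rm (m : ℕ) : IsRegularLocalRing (Rm f m) :=
  (CalgA.RegBasic.quotient_of_notMem_sq (eqn f m) (eqn_mem hf m) (eqn_notMem_sq hf m)).1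

theorem isDomain_Rm (m : ℕ) : IsDomain (Rm f m) :=
  have := isRegularLocalRing_Rm hf m
  CalgA.RegBasic.isDomain (Rm f m)

theorem ringKrullDim_Rm (m : ℕ) : ringKrullDim (Rm f m) = d := by
  have h := (CalgA.RegBasic.quotient_of_notMem_sq (eqn f m) (eqn_mem hf m)
    (eqn_notMem_sq hf m)).2
  have := isRegularLocalRing_Rm hf m
  obtain ⟨n, hn⟩ := CalgA.RegBasic.ringKrullDim_eq_natCast (Rm f m)
  rw [ringKrullDim_A, hn] at h
  rw [hn]
  have : ((n + 1 : ℕ) : WithBot ℕ∞) = (d + 1 : ℕ) := by exact_mod_cast h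
  have h2 : n + 1 = d + 1 := by exact_mod_cast this
  rw [Nat.succ_injective h2]

theorem isAdicComplete_Rm (m : ℕ) [IsLocalRing (Rm f m)] :
    IsAdicComplete (maximalIdeal (Rm f m)) (Rm f m) :=
  Ega4C.CompleteCM.isAdicComplete_quotient _ _

theorem p_mem_span_x (m : ℕ) : (p : Rm f m) ∈ Ideal.span (Set.range (x f m)) := by
  rw [natCast_p]
  have h1 : ex p k d m f ∈ Ideal.span (Set.range (X : Fin d → A p k d)) := by
    rw [Ega41.PowComplete.mem_span_X_iff, constantCoeff_ex]
    exact (Ega41.PowComplete.mem_span_X_iff _ _ f).mp hf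
  have h2 := Ideal.mem_map_of_mem (mk f m) h1
  rw [Ideal.map_span, ← Set.range_comp] at h2
  exact h2

theorem maximalIdeal_Rm (m : ℕ) [IsLocalRing (Rm f m)] :
    maximalIdeal (Rm f m) = Ideal.span (Set.range (x f m)) := by
  have h1 : (maximalIdeal (A p k d)).map (mk f m) = maximalIdeal (Rm f m) :=
    CalgA.RegBasic.map_maximalIdeal_quotient _
  rw [← h1, maximalIdeal_A, Ideal.map_sup, Ideal.map_span, Ideal.map_span, Set.image_singleton,
    map_natCast, ← Set.range_comp]
  apply sup_eq_right.mpr
  rw [Ideal.span_singleton_le_iff_mem]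
  exact p_mem_span_x hf m

theorem isLocalHom_trLE {m n : ℕ} (h : m ≤ n) [IsLocalRing (Rm f m)] [IsLocalRing (Rm f n)] :
    IsLocalHom (trLE f h) := by
  rw [((local_hom_TFAE (trLE f h)).out 0 2 :)]
  rw [maximalIdeal_Rm hf m, Ideal.map_span, Ideal.span_le]
  rintro _ ⟨_, ⟨i, rfl⟩, rfl⟩
  rw [trLE_x]
  refine Ideal.pow_mem_of_mem _ ?_ _ (Nat.pos_of_ne_zero (pow_ne p _))
  rw [maximalIdeal_Rm hf n]
  exact Ideal.subset_span ⟨i, rfl⟩

end Groth.Agent.EtDual.K375.Tower
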